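import Mathlib

/-!
The alternating tables of size eight over the field with two elements, with totally singular
perpendicular rows and one prescribed sum of two rows.
-/

set_option autoImplicit false

namespace Cfsg.Agent.H97.Fischer.Alt

/-- The field. -/
def vals : List (ZMod 2) := [0, 1]

theorem mem_vals : ∀ x : ZMod 2, x ∈ vals := by decide

/-- Values. -/
def t1 : List (ZMod 2) := vals

/-- Pairs. -/
def t2 : List (ZMod 2 × ZMod 2) := vals ×ˢ t1

/-- Triples. -/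
def t3 : List (ZMod 2 × ZMod 2 × ZMod 2) := vals ×ˢ t2

/-- Four-tuples. -/
def t4 : List (ZMod 2 × ZMod 2 × ZMod 2 × ZMod 2) := vals ×ˢ t3

/-- Five-tuples. -/
def t5 : List (ZMod 2 × ZMod 2 × ZMod 2 × ZMod 2 × ZMod 2) := vals ×ˢ t4

/-- Six-tuples. -/
def t6 : List (ZMod 2 × ZMod 2 × ZMod 2 × ZMod 2 × ZMod 2 × ZMod 2) := vals ×ˢ t5

/-- The tables. -/
abbrev Key : Type :=
  (ZMod 2 × ZMod 2 × ZMod 2 × ZMod 2 × ZMod 2 × ZMod 2) ×
  (ZMod 2 × ZMod 2 × ZMod 2 × ZMod 2 × ZMod 2) ×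
  (ZMod 2 × ZMod 2 × ZMod 2 × ZMod 2) ×
  (ZMod 2 × ZMod 2 × ZMod 2) ×
  (ZMod 2 × ZMod 2) ×
  (ZMod 2)

/-- The tables, row by row. -/
def sols : List Key :=
  (t6.filter fun (b02, b03, b04, b05, b06, b07) =>
        b02 * b03 + b04 * b05 + b06 * b07 == 0 &&
        (b02 + 1) * (b03 + 1) + b04 * b05 + b06 * b07 == 0 &&
        1 + b02 * (b03 + 1) + b03 * (b02 + 1) + b04 * b05 + b05 * b04 + b06 * b07 + b07 * b06 == 0).flatMap fun (b02, b03, b04, b05, b06, b07) =>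
    (t5.filter fun (b23, b24, b25, b26, b27) =>
          b02 * (b02 + 1) + b24 * b25 + b26 * b27 == 0 &&
          b02 + b02 * b23 + b04 * b25 + b05 * b24 + b06 * b27 + b07 * b26 == 0 &&
          (b02 + 1) + (b02 + 1) * b23 + b04 * b25 + b05 * b24 + b06 * b27 + b07 * b26 == 0).flatMap fun (b23, b24, b25, b26, b27) =>
      (t4.filter fun (b34, b35, b36, b37) =>
            b03 * (b03 + 1) + b34 * b35 + b36 * b37 == 0 &&
            b03 + b03 * b23 + b04 * b35 + b05 * b34 + b06 * b37 + b07 * b36 == 0 &&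
            (b03 + 1) + (b03 + 1) * b23 + b04 * b35 + b05 * b34 + b06 * b37 + b07 * b36 == 0 &&
            b02 * (b03 + 1) + (b02 + 1) * b03 + b23 * b23 + b24 * b35 + b25 * b34 + b26 * b37 + b27 * b36 == 0).flatMap fun (b34, b35, b36, b37) =>
        (t3.filter fun (b45, b46, b47) =>
              b04 * b04 + b24 * b34 + b46 * b47 == 0 &&
              b04 + b02 * b34 + b03 * b24 + b04 * b45 + b06 * b47 + b07 * b46 == 0 &&
              b04 + (b02 + 1) * b34 + (b03 + 1) * b24 + b04 * b45 + b06 * b47 + b07 * b46 == 0 &&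
              b02 * b04 + (b02 + 1) * b04 + b23 * b24 + b24 * b45 + b26 * b47 + b27 * b46 == 0 &&
              b03 * b04 + (b03 + 1) * b04 + b23 * b34 + b34 * b45 + b36 * b47 + b37 * b46 == 0).flatMap fun (b45, b46, b47) =>
          (t2.filter fun (b56, b57) =>
                b05 * b05 + b25 * b35 + b56 * b57 == 0 &&
                b05 + b02 * b35 + b03 * b25 + b05 * b45 + b06 * b57 + b07 * b56 == 0 &&
                b05 + (b02 + 1) * b35 + (b03 + 1) * b25 + b05 * b45 + b06 * b57 + b07 * b56 == 0 &&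
                b02 * b05 + (b02 + 1) * b05 + b23 * b25 + b25 * b45 + b26 * b57 + b27 * b56 == 0 &&
                b03 * b05 + (b03 + 1) * b05 + b23 * b35 + b35 * b45 + b36 * b57 + b37 * b56 == 0 &&
                b04 * b05 + b04 * b05 + b24 * b35 + b34 * b25 + b45 * b45 + b46 * b57 + b47 * b56 == 0).flatMap fun (b56, b57) =>
            (t1.filter fun b67 =>
                  b06 * b06 + b26 * b36 + b46 * b56 == 0 &&
                  b07 * b07 + b27 * b37 + b47 * b57 == 0 &&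
                  b06 * b07 + b06 * b07 + b26 * b37 + b36 * b27 + b46 * b57 + b56 * b47 + b67 * b67 == 0 &&
                  b06 + b02 * b36 + b03 * b26 + b04 * b56 + b05 * b46 + b06 * b67 == 0 &&
                  b06 + (b02 + 1) * b36 + (b03 + 1) * b26 + b04 * b56 + b05 * b46 + b06 * b67 == 0 &&
                  b02 * b06 + (b02 + 1) * b06 + b23 * b26 + b24 * b56 + b25 * b46 + b26 * b67 == 0 &&
                  b03 * b06 + (b03 + 1) * b06 + b23 * b36 + b34 * b56 + b35 * b46 + b36 * b67 == 0 &&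
                  b04 * b06 + b04 * b06 + b24 * b36 + b34 * b26 + b45 * b46 + b46 * b67 == 0 &&
                  b05 * b06 + b05 * b06 + b25 * b36 + b35 * b26 + b45 * b56 + b56 * b67 == 0 &&
                  b07 + b02 * b37 + b03 * b27 + b04 * b57 + b05 * b47 + b07 * b67 == 0 &&
                  b07 + (b02 + 1) * b37 + (b03 + 1) * b27 + b04 * b57 + b05 * b47 + b07 * b67 == 0 &&
                  b02 * b07 + (b02 + 1) * b07 + b23 * b27 + b24 * b57 + b25 * b47 + b27 * b67 == 0 &&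
                  b03 * b07 + (b03 + 1) * b07 + b23 * b37 + b34 * b57 + b35 * b47 + b37 * b67 == 0 &&
                  b04 * b07 + b04 * b07 + b24 * b37 + b34 * b27 + b45 * b47 + b47 * b67 == 0 &&
                  b05 * b07 + b05 * b07 + b25 * b37 + b35 * b27 + b45 * b57 + b57 * b67 == 0).map fun b67 =>
              ((b02, b03, b04, b05, b06, b07), (b23, b24, b25, b26, b27), (b34, b35, b36, b37), (b45, b46, b47), (b56, b57), b67)

theorem length_sols : sols.length = 140 := by decide +kernel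

/-- The key of a table. -/
def key (M : Fin 8 → Fin 8 → ZMod 2) : Key :=
  ((M 0 2, M 0 3, M 0 4, M 0 5, M 0 6, M 0 7),
    (M 2 3, M 2 4, M 2 5, M 2 6, M 2 7),
    (M 3 4, M 3 5, M 3 6, M 3 7),
    (M 4 5, M 4 6, M 4 7),
    (M 5 6, M 5 7),
    M 6 7)

theorem mem_sols {M : Fin 8 → Fin 8 → ZMod 2} (hd : ∀ s, M s s = 0) (hs : ∀ s t, M t s = M s t)
    (hc : ∀ s, M 0 s + M 1 s = if s.val < 4 then 1 else 0)
    (hq : ∀ t, M t 0 * M t 1 + M t 2 * M t 3 + M t 4 * M t 5 + M t 6 * M t 7 = 0)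
    (hp : ∀ t u, M t 0 * M u 1 + M t 1 * M u 0 + M t 2 * M u 3 + M t 3 * M u 2 + M t 4 * M u 5 +
      M t 5 * M u 4 + M t 6 * M u 7 + M t 7 * M u 6 = 0) : key M ∈ sols := by
  have e01 : M 0 1 = 1 := by have := hc 1; rw [hd 1, add_zero] at this; simpa using this
  have e12 : M 1 2 = M 0 2 + 1 := by
    refine (show ∀ x y z : ZMod 2, x + y = z → y = x + z by decide) _ _ _ (hc 2) |>.trans ?_
    simp
  have e13 : M 1 3 = M 0 3 + 1 := by
    refine (show ∀ x y z : ZMod 2, x + y = z → y = x + z by decide) _ _ _ (hc 3) |>.trans ?_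
    simp
  have e14 : M 1 4 = M 0 4 := by
    refine (show ∀ x y z : ZMod 2, x + y = z → y = x + z by decide) _ _ _ (hc 4) |>.trans ?_
    simp
  have e15 : M 1 5 = M 0 5 := by
    refine (show ∀ x y z : ZMod 2, x + y = z → y = x + z by decide) _ _ _ (hc 5) |>.trans ?_
    simp
  have e16 : M 1 6 = M 0 6 := by
    refine (show ∀ x y z : ZMod 2, x + y = z → y = x + z by decide) _ _ _ (hc 6) |>.trans ?_
    simp
  have e17 : M 1 7 = M 0 7 := by
    refine (show ∀ x y z : ZMod 2, x + y = z → y = x + z by decide) _ _ _ (hc 7) |>.trans ?_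
    simp
  have f1 := hq 0
  have f2 := hq 1
  have f3 := hp 0 1
  have f4 := hq 2
  have f5 := hp 0 2
  have f6 := hp 1 2
  have f7 := hq 3
  have f8 := hp 0 3
  have f9 := hp 1 3
  have f10 := hp 2 3
  have f11 := hq 4
  have f12 := hp 0 4
  have f13 := hp 1 4
  have f14 := hp 2 4
  have f15 := hp 3 4
  have f16 := hq 5
  have f17 := hp 0 5
  have f18 := hp 1 5
  have f19 := hp 2 5
  have f20 := hp 3 5
  have f21 := hp 4 5
  have f22 := hq 6
  have f23 := hq 7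
  have f24 := hp 6 7
  have f25 := hp 0 6
  have f26 := hp 1 6
  have f27 := hp 2 6
  have f28 := hp 3 6
  have f29 := hp 4 6
  have f30 := hp 5 6
  have f31 := hp 0 7
  have f32 := hp 1 7
  have f33 := hp 2 7
  have f34 := hp 3 7
  have f35 := hp 4 7
  have f36 := hp 5 7
  simp only [hd, hs 0 1, hs 0 2, hs 0 3, hs 0 4, hs 0 5, hs 0 6, hs 0 7, hs 1 2, hs 1 3, hs 1 4, hs 1 5, hs 1 6, hs 1 7, hs 2 3, hs 2 4, hs 2 5, hs 2 6, hs 2 7, hs 3 4, hs 3 5, hs 3 6, hs 3 7, hs 4 5, hs 4 6, hs 4 7, hs 5 6, hs 5 7, hs 6 7, e01, e12, e13, e14, e15, e16, e17, mul_one, one_mul, mul_zero, zero_mul, add_zero, zero_add] at f1 f2 f3 f4 f5 f6 f7 f8 f9 f10 f11 f12 f13 f14 f15 f16 f17 f18 f19 f20 f21 f22 f23 f24 f25 f26 f27 f28 f29 f30 f31 f32 f33 f34 f35 f36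
  simp only [key, sols, t1, t2, t3, t4, t5, t6, List.mem_flatMap, List.mem_filter, List.mem_map,
    List.mem_product, mem_vals, and_self, true_and, Bool.and_eq_true, beq_iff_eq, Prod.exists]
  refine ⟨_, _, _, _, _, _, ?_, _, _, _, _, _, ?_, _, _, _, _, ?_, _, _, _, ?_, _, _, ?_, _, ?_, rfl⟩
  · exact ⟨⟨f1, f2⟩, f3⟩
  · exact ⟨⟨f4, f5⟩, f6⟩
  · exact ⟨⟨⟨f7, f8⟩, f9⟩, f10⟩
  · exact ⟨⟨⟨⟨f11, f12⟩, f13⟩, f14⟩, f15⟩
  · exact ⟨⟨⟨⟨⟨f16, f17⟩, f18⟩, f19⟩, f20⟩, f21⟩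
  · exact ⟨⟨⟨⟨⟨⟨⟨⟨⟨⟨⟨⟨⟨⟨f22, f23⟩, f24⟩, f25⟩, f26⟩, f27⟩, f28⟩, f29⟩, f30⟩, f31⟩, f32⟩, f33⟩, f34⟩, f35⟩, f36⟩

end Cfsg.Agent.H97.Fischer.Alt
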