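import Cfsg.Agent.H7Fischer.Residue
import Cfsg.Agent.Components.TTPrimitive
import Cfsg.Agent.Components.TTZStar

/-!
Classes of 3-transpositions with disconnected commuting graph: the components are blocks, the
product of two commuting members fixes every component and moves each member outside its own
component to a commuting one.
-/

set_option autoImplicit false
set_option linter.unusedSectionVars false

namespace Cfsg.Agent.H97.Fischer

open Cfsg
open H76.LocallyS3 (nb cj cj_cj cj_injective commute_cj_iff)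
open H80.TTQuad (Cls cj_one cj_inv_cj cj_cj_inv cj_eq_of_commute commute_of_cj_eq nb_symm)
open H7Fischer (Conn)
open scoped commutatorElement

universe u

variable {G : Type u} [Group G] {D : Set G}

/-- Joined by commuting members. -/
def Rl (D : Set G) (a b : G) : Prop :=
  Relation.ReflTransGen (fun x y => x ∈ D ∧ y ∈ D ∧ Commute x y) a b

/-- The component of `a` in the commuting graph. -/
def blk (D : Set G) (a : G) : Set G := {b | b ∈ D ∧ Rl D a b}

/-- The group generated by the component of `a`. -/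
def sub (D : Set G) (a : G) : Subgroup G := Subgroup.closure (blk D a)

/-- The component of `a`, inside the group it generates. -/
def cls (D : Set G) (a : G) : Set ↥(sub D a) := {x | (x : G) ∈ blk D a}

/-- An involution moving every member to another one commuting with it. -/
def Moves {M : Type*} [Group M] (C : Set M) (x : M) : Prop :=
  x * x = 1 ∧ ∀ c ∈ C, cj x c ∈ nb C c

theorem Rl.symm {a b : G} (h : Rl D a b) : Rl D b a := by
  induction h with
  | refl => exact .refl
  | tail _ hxy ih => exact .head ⟨hxy.2.1, hxy.1, hxy.2.2.symm⟩ ih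

theorem Rl.cj_map (H : Cls D) (g : G) {a b : G} (h : Rl D a b) : Rl D (cj g a) (cj g b) :=
  h.lift (cj g) fun _ _ hxy => ⟨H.mem_cj g hxy.1, H.mem_cj g hxy.2.1, commute_cj_iff.2 hxy.2.2⟩

theorem self_mem_blk {a : G} (ha : a ∈ D) : a ∈ blk D a := ⟨ha, .refl⟩

theorem blk_eq {a b : G} (h : b ∈ blk D a) : blk D b = blk D a :=
  Set.ext fun _ => ⟨fun hx => ⟨hx.1, h.2.trans hx.2⟩, fun hx => ⟨hx.1, h.2.symm.trans hx.2⟩⟩

theorem mem_blk_symm {a b : G} (ha : a ∈ D) (h : b ∈ blk D a) : a ∈ blk D b := ⟨ha, h.2.symm⟩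

theorem blk_of_commute {a b : G} (ha : a ∈ D) (hb : b ∈ D) (h : Commute a b) : b ∈ blk D a :=
  ⟨hb, .single ⟨ha, hb, h⟩⟩

theorem nb_subset_blk {a : G} (ha : a ∈ D) : nb D a ⊆ blk D a := fun _ hb =>
  blk_of_commute ha hb.1 hb.2.2

theorem nb_subset_blk' {a c : G} (hc : c ∈ blk D a) : nb D c ⊆ blk D a :=
  blk_eq hc ▸ nb_subset_blk hc.1

theorem not_commute_of_not_mem {a d : G} (ha : a ∈ D) (hd : d ∈ D) (h : d ∉ blk D a) :
    ¬ Commute a d :=
  fun hc => h (blk_of_commute ha hd hc)

variable [Finite G]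

theorem cj_mem_blk (H : Cls D) (g : G) {a b : G} (h : b ∈ blk D a) :
    cj g b ∈ blk D (cj g a) :=
  ⟨H.mem_cj g h.1, h.2.cj_map H g⟩

theorem cj_image_blk (H : Cls D) (g a : G) : cj g '' blk D a = blk D (cj g a) := by
  refine Set.Subset.antisymm (fun _ ⟨b, hb, e⟩ => e ▸ cj_mem_blk H g hb) fun x hx => ?_
  refine ⟨cj g⁻¹ x, ?_, cj_cj_inv g x⟩
  have := cj_mem_blk H g⁻¹ hx
  rwa [cj_inv_cj] at this

theorem cj_mem_self (H : Cls D) {a x b : G} (hx : x ∈ blk D a) (hb : b ∈ blk D a) :
    cj x b ∈ blk D a := by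
  rw [← blk_eq hx] at hb ⊢
  have := cj_mem_blk H x hb
  rwa [cj_eq_of_commute (Commute.refl x)] at this

theorem not_mem_cj (H : Cls D) {a d : G} (ha : a ∈ D) (hd : d ∈ D) (h : d ∉ blk D a) :
    cj d a ∉ blk D a ∧ cj d a ∉ blk D d := by
  have hn := not_commute_of_not_mem ha hd h
  constructor
  · intro h1
    rw [← H.braid ha hd hn] at h1
    have := cj_mem_self H (self_mem_blk ha) h1
    rw [H.cj_invol ha] at this
    exact h this
  · intro h1
    have := cj_mem_self H (self_mem_blk hd) h1
    rw [H.cj_invol hd] at this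
    exact h (mem_blk_symm hd this)

/-- The product of two commuting members moves a member outside their component to a commuting one. -/
theorem slide (H : Cls D) {a b d : G} (ha : a ∈ D) (hb : b ∈ nb D a) (hd : d ∈ D)
    (h : d ∉ blk D a) : cj (a * b) d ∈ nb D d := by
  have hna := not_commute_of_not_mem ha hd h
  have hnb : ¬ Commute b d :=
    not_commute_of_not_mem hb.1 hd (blk_eq (nb_subset_blk ha hb) ▸ h)
  rw [← cj_cj, H.braid hb.1 hd hnb]
  refine ⟨H.mem_cj a (H.mem_cj d hb.1), fun e => hb.2.1 ?_, commute_of_cj_eq ?_⟩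
  · have e2 : cj a (cj a (cj d b)) = cj a d := congrArg (cj a) e
    rw [H.cj_invol ha, H.braid ha hd hna] at e2
    exact cj_injective d e2
  · have hab : cj a b = b := cj_eq_of_commute hb.2.2
    have e3 : d * a * d = a * d * a := by
      have := congrArg (fun z => z) (H.braid hd ha fun q => hna q.symm)
      simp only [cj, H.inv' hd, H.inv' ha] at this
      exact this
    calc cj d (cj a (cj d b)) = cj (d * a * d) b := by rw [cj_cj, cj_cj, mul_assoc]
      _ = cj (a * d * a) b := by rw [e3]
      _ = cj a (cj d (cj a b)) := by rw [cj_cj, cj_cj, mul_assoc]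
      _ = cj a (cj d b) := by rw [hab]

theorem exists_not_mem (_H : Cls D) (hdisc : ¬ Conn D) {a : G} (ha : a ∈ D) :
    ∃ d ∈ D, d ∉ blk D a := by
  by_contra hall
  push Not at hall
  refine hdisc ?_
  have : Nonempty ↥D := ⟨⟨a, ha⟩⟩
  refine SimpleGraph.Connected.mk fun x y => ?_
  have key : ∀ {u v : G}, Rl D u v → ∀ (hu : u ∈ D) (hv : v ∈ D),
      (Cfsg.commutingGraph D).Reachable ⟨u, hu⟩ ⟨v, hv⟩ := by
    intro u v h
    induction h with
    | refl => intro hu hv; exact SimpleGraph.Reachable.refl _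
    | @tail w v _ hwv ih =>
      intro hu hv
      refine (ih hu hwv.1).trans ?_
      rcases eq_or_ne w v with rfl | hne
      · exact SimpleGraph.Reachable.refl _
      exact SimpleGraph.Adj.reachable ((SimpleGraph.fromRel_adj _ _ _).2
        ⟨fun e => hne (congrArg Subtype.val e), Or.inl hwv.2.2⟩)
  exact key ((hall x x.2).2.symm.trans (hall y y.2).2) x.2 y.2

/-! ### the simple normal subgroup -/

theorem cores (H : Cls D) :
    Cfsg.pCore 2 G ≤ Subgroup.center G ∧ Cfsg.pCore 3 G ≤ Subgroup.center G := by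
  have key : ∀ p : ℕ, p.Prime → Cfsg.pCore p G ≤ Subgroup.center G := by
    intro p hp
    have : Fact p.Prime := ⟨hp⟩
    have hn : (Cfsg.pCore p G).Normal := by
      rw [Cfsg.pCore]
      exact Subgroup.sSup_normal _ fun N hN => hN.1
    have := (Components.isPGroup_pCore p (G := G)).isNilpotent
    rw [H.sol _ hn inferInstance]
    exact bot_le
  exact ⟨key 2 Nat.prime_two, key 3 Nat.prime_three⟩

/-- The simple normal subgroup with trivial centralizer. -/
structure Core (D : Set G) (L : Subgroup G) : Prop extends Cls D where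
  normal : L.Normal
  qs : Cfsg.IsQuasisimple L
  fitting : Cfsg.generalizedFittingSubgroup G = L ⊔ Subgroup.center G

theorem exists_core (H : Cls D) : ∃ L : Subgroup G, Core D L := by
  obtain ⟨L, hn, hL, hF⟩ := Components.exists_qs_normal Components.zStarTheorem H.cl
    H.exists_two (cores H).1 (cores H).2
  exact ⟨L, H, hn, hL, hF⟩

namespace Core

variable {L : Subgroup G} (K : Core D L)
include K

theorem eq_fitting : Cfsg.generalizedFittingSubgroup G = L := by
  rw [K.fitting, K.toCls.center_eq_bot, sup_bot_eq]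

theorem centralizer_eq_bot : Subgroup.centralizer (L : Set G) = ⊥ := by
  have := K.normal
  rw [eq_bot_iff, ← K.toCls.center_eq_bot]
  exact Components.centralizer_le_center K.cl (cores K.toCls).1 (cores K.toCls).2 K.fitting

theorem inv_mul_mem {a b : G} (h : Rl D a b) : a⁻¹ * b ∈ L := by
  have := K.normal
  induction h with
  | refl => simp
  | @tail p q _ hpq ih =>
    have h1 : p⁻¹ * q ∈ L := Components.width_one_image K.cl K.qs hpq.1 hpq.2.1 (by
      rw [hpq.2.2.eq, mul_inv_cancel_right, mul_inv_cancel]; exact one_mem _)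
    have := mul_mem ih h1
    rwa [mul_assoc, mul_inv_cancel_left] at this

/-- A product of two members of one component is in `L`. -/
theorem mul_mem_core {a p q : G} (hp : p ∈ blk D a) (hq : q ∈ blk D a) : p * q ∈ L := by
  have h := K.inv_mul_mem (hp.2.symm.trans hq.2)
  rwa [K.toCls.inv' hp.1] at h

/-- `L` fixes every component. -/
theorem fix_blk {l x : G} (hl : l ∈ L) (hx : x ∈ D) : cj l x ∈ blk D x := by
  have H := K.toCls
  have := K.normal
  let S : Subgroup G :=
    { carrier := {g | ∀ x ∈ D, cj g x ∈ blk D x}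
      one_mem' := fun x hx => by rw [cj_one]; exact self_mem_blk hx
      mul_mem' := fun {g k} hg hk x hx => by
        rw [← cj_cj]
        exact blk_eq (hk x hx) ▸ hg _ (H.mem_cj k hx)
      inv_mem' := fun {g} hg x hx => by
        have := hg _ (H.mem_cj g⁻¹ hx)
        rw [cj_cj_inv] at this
        exact mem_blk_symm (H.mem_cj g⁻¹ hx) this }
  have hS : S.Normal := ⟨fun n hn g y hy => by
    have h1 := cj_mem_blk H g (hn _ (H.mem_cj g⁻¹ hy))
    rw [cj_cj_inv, cj_cj, cj_cj] at h1
    exact h1⟩
  obtain ⟨a, ha⟩ := H.nonempty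
  obtain ⟨b, hb⟩ := H.nb_nonempty ha
  have hab : a * b ∈ S := by
    intro y hy
    by_cases hya : y ∈ blk D a
    · rw [blk_eq hya, ← cj_cj]
      exact cj_mem_self H (self_mem_blk ha) (cj_mem_self H (nb_subset_blk ha hb) hya)
    · exact nb_subset_blk hy (slide H ha hb hy hya)
  have hnc : ¬ S ≤ Subgroup.center G := fun h => by
    have := h hab
    rw [H.center_eq_bot, Subgroup.mem_bot] at this
    exact hb.2.1 (by rw [← H.inv' hb.1, ← eq_inv_of_mul_eq_one_left this])
  exact Components.le_of_normal_noncentral H.cl (cores H).1 (cores H).2 K.qs K.fitting S hnc hl x hx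

theorem cj_blk_self {l a x : G} (hl : l ∈ L) (hx : x ∈ blk D a) : cj l x ∈ blk D a :=
  blk_eq hx ▸ K.fix_blk hl hx.1

theorem le_sub {a : G} (ha : a ∈ D) : L ≤ sub D a := by
  have H := K.toCls
  have hnorm : L ≤ Subgroup.normalizer (sub D a : Set G) := by
    intro l hl
    rw [Subgroup.mem_normalizer_iff]
    have key : ∀ m ∈ L, ∀ h ∈ sub D a, m * h * m⁻¹ ∈ sub D a := by
      intro m hm h hh
      induction hh using Subgroup.closure_induction with
      | mem y hy => exact Subgroup.subset_closure (K.cj_blk_self hm hy)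
      | one => simp
      | mul p q _ _ hp hq =>
        rw [show m * (p * q) * m⁻¹ = (m * p * m⁻¹) * (m * q * m⁻¹) by group]
        exact mul_mem hp hq
      | inv p _ hp =>
        rw [show m * p⁻¹ * m⁻¹ = (m * p * m⁻¹)⁻¹ by group]
        exact inv_mem hp
    intro h
    refine ⟨key l hl h, fun hh => ?_⟩
    have := key l⁻¹ (inv_mem hl) _ hh
    rwa [show l⁻¹ * (l * h * l⁻¹) * l⁻¹⁻¹ = h by group] at this
  refine (Components.qsSub_normal K.qs hnorm).resolve_right fun h => ?_
  obtain ⟨b, hb⟩ := H.nb_nonempty ha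
  have h1 : a * b ∈ L ⊓ sub D a :=
    ⟨K.mul_mem_core (self_mem_blk ha) (nb_subset_blk ha hb),
      mul_mem (Subgroup.subset_closure (self_mem_blk ha))
        (Subgroup.subset_closure (nb_subset_blk ha hb))⟩
  have h2 : a * b ∈ Subgroup.centralizer (L : Set G) :=
    Subgroup.mem_centralizer_iff.2 fun l hl => Components.commute_of_commutator_eq_bot h hl h1
  rw [K.centralizer_eq_bot, Subgroup.mem_bot] at h2
  exact hb.2.1 (by rw [← H.inv' hb.1, ← eq_inv_of_mul_eq_one_left h2])

/-- The group of a component is `L` extended by one member. -/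
theorem mem_sub_iff {a g : G} (ha : a ∈ D) :
    g ∈ sub D a ↔ g ∈ L ∨ a⁻¹ * g ∈ L := by
  have H := K.toCls
  have := K.normal
  constructor
  · intro hg
    have hle : sub D a ≤ L ⊔ Subgroup.zpowers a := by
      rw [sub, Subgroup.closure_le]
      intro b hb
      have h1 : a * (a⁻¹ * b) ∈ L ⊔ Subgroup.zpowers a :=
        mul_mem (Subgroup.mem_sup_right (Subgroup.mem_zpowers a))
          (Subgroup.mem_sup_left (K.inv_mul_mem hb.2))
      rwa [mul_inv_cancel_left] at h1
    obtain ⟨l, hl, z, hz, rfl⟩ := Subgroup.mem_sup_of_normal_left.1 (hle hg)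
    obtain ⟨k, rfl⟩ := Subgroup.mem_zpowers_iff.1 hz
    rcases Int.even_or_odd k with ⟨j, rfl⟩ | ⟨j, rfl⟩
    · left
      rw [zpow_add, ← (Commute.refl a).mul_zpow, H.sq ha, one_zpow, mul_one]
      exact hl
    · right
      rw [zpow_add, zpow_mul, zpow_one, show a ^ (2 : ℤ) = 1 by rw [zpow_two, H.sq ha], one_zpow,
        one_mul, ← mul_assoc, H.inv' ha]
      have := K.normal.conj_mem l hl a
      rwa [H.inv' ha] at this
  · rintro (h | h)
    · exact K.le_sub ha h
    · have := mul_mem (Subgroup.subset_closure (self_mem_blk ha) : a ∈ sub D a) (K.le_sub ha h)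
      rwa [mul_inv_cancel_left] at this

end Core

end Cfsg.Agent.H97.Fischer
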