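import Cfsg.Agent.H97.Fischer.Blocks
import Cfsg.Agent.H7Fischer.Iso

/-!
A component of a disconnected commuting graph is a connected class of 3-transpositions in the group
it generates, and the commutator subgroup of that group has an embedded copy in which the products
of commuting pairs move every member to a commuting one.
-/

set_option autoImplicit false
set_option linter.unusedSectionVars false

namespace Cfsg.Agent.H97.Fischer

open Cfsg
open H76.LocallyS3 (nb cj cj_cj cj_injective commute_cj_iff)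
open H80.TTQuad (Cls cj_one cj_inv_cj cj_cj_inv cj_eq_of_commute commute_of_cj_eq nb_symm)
open H7Fischer (Conn IsoTo)

universe u v

variable {G : Type u} [Group G] {D : Set G}

/-- A copy of the commutator subgroup in which products of commuting pairs move every member, and
the pairs at one member move a given member to different members. -/
def Twist {M : Type*} [Group M] (C : Set M) : Prop :=
  ∃ φ : ↥(commutator M) →* M, Function.Injective φ ∧
    (∀ p ∈ C, ∀ q ∈ nb C p, ∀ h : p * q ∈ commutator M, Moves C (φ ⟨p * q, h⟩)) ∧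
    ∀ p ∈ C, ∀ q ∈ nb C p, ∀ q' ∈ nb C p, ∀ (h : p * q ∈ commutator M)
      (h' : p * q' ∈ commutator M), ∀ e ∈ C,
      cj (φ ⟨p * q, h⟩) e = cj (φ ⟨p * q', h'⟩) e → q = q'

/-- The product of a commuting pair determines the pair. -/
def PairUnique {M : Type*} [Group M] (C : Set M) : Prop :=
  ∀ p ∈ C, ∀ q ∈ nb C p, ∀ r ∈ C, ∀ s ∈ nb C r, p * q = r * s → r = p ∨ r = q

/-- Few involutions move a given member to a given commuting one and all members to commuting ones. -/
def FewMoves {M : Type*} [Group M] (C : Set M) : Prop :=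
  ∃ p ∈ C, ∃ q ∈ nb C p, 2 * {x : M | Moves C x ∧ cj x p = q}.ncard < 3 * C.ncard

section Transport

variable {G' : Type v} [Group G'] {D' : Set G'}

theorem mem_image_iso {e : G ≃* G'} (he : e '' D = D') (x : G) : e x ∈ D' ↔ x ∈ D := by
  subst he
  exact ⟨fun ⟨y, hy, h⟩ => e.injective h ▸ hy, fun h => ⟨x, h, rfl⟩⟩

theorem mem_nb_iso {e : G ≃* G'} (he : e '' D = D') (x y : G) :
    e y ∈ nb D' (e x) ↔ y ∈ nb D x :=
  ⟨fun h => ⟨(mem_image_iso he y).1 h.1, fun q => h.2.1 (congrArg e q),
    (H7Fischer.commute_map_iff' e).1 h.2.2⟩,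
  fun h => ⟨(mem_image_iso he y).2 h.1, fun q => h.2.1 (e.injective q),
    (H7Fischer.commute_map_iff' e).2 h.2.2⟩⟩

theorem moves_iso {e : G ≃* G'} (he : e '' D = D') (x : G) : Moves D' (e x) ↔ Moves D x := by
  refine and_congr ⟨fun h => e.injective (by rw [map_mul, map_one]; exact h),
    fun h => by rw [← map_mul, h, map_one]⟩ ⟨fun h c hc => ?_, fun h c hc => ?_⟩
  · have := h (e c) ((mem_image_iso he c).2 hc)
    rwa [← H7Fischer.map_cj, mem_nb_iso he] at this
  · obtain ⟨c, rfl⟩ := e.surjective c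
    rw [← H7Fischer.map_cj, mem_nb_iso he]
    exact h c ((mem_image_iso he c).1 hc)

theorem map_mem_commutator (e : G ≃* G') {x : G} (hx : x ∈ commutator G) :
    e x ∈ commutator G' := by
  have h : (commutator G).map e.toMonoidHom ≤ commutator G' := by
    rw [commutator_def, Subgroup.map_commutator, commutator_def]
    exact Subgroup.commutator_mono le_top le_top
  exact h ⟨x, hx, rfl⟩

theorem Twist.of_isoTo (h : IsoTo D D') (hT : Twist D) : Twist D' := by
  obtain ⟨e, he⟩ := h
  obtain ⟨φ, hφ, hm, hs⟩ := hT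
  let ψ : ↥(commutator G') →* ↥(commutator G) :=
    { toFun := fun y => ⟨e.symm y, map_mem_commutator e.symm y.2⟩
      map_one' := Subtype.ext (map_one e.symm)
      map_mul' := fun y z => Subtype.ext (map_mul e.symm (y : G') z) }
  have hψ : ∀ (p q : G) (hpq : e p * e q ∈ commutator G'),
      ∃ hmem : p * q ∈ commutator G, ψ ⟨e p * e q, hpq⟩ = ⟨p * q, hmem⟩ := by
    intro p q hpq
    have hmem : p * q ∈ commutator G := by
      have := map_mem_commutator e.symm hpq
      rwa [map_mul, e.symm_apply_apply, e.symm_apply_apply] at this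
    exact ⟨hmem, Subtype.ext (show e.symm (e p * e q) = p * q by
      rw [map_mul, e.symm_apply_apply, e.symm_apply_apply])⟩
  refine ⟨e.toMonoidHom.comp (φ.comp ψ), fun y z hyz => ?_, fun p hp q hq hpq => ?_,
    fun p hp q hq q' hq' hpq hpq' c hc hce => ?_⟩
  · exact Subtype.ext (e.symm.injective (congrArg Subtype.val (hφ (e.injective hyz))))
  · obtain ⟨p, rfl⟩ := e.surjective p
    obtain ⟨q, rfl⟩ := e.surjective q
    refine (moves_iso he _).2 ?_
    obtain ⟨hmem, e1⟩ := hψ p q hpq
    show Moves D (φ (ψ ⟨e p * e q, hpq⟩))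
    rw [e1]
    exact hm p ((mem_image_iso he p).1 hp) q ((mem_nb_iso he p q).1 hq) hmem
  · obtain ⟨p, rfl⟩ := e.surjective p
    obtain ⟨q, rfl⟩ := e.surjective q
    obtain ⟨q', rfl⟩ := e.surjective q'
    obtain ⟨c, rfl⟩ := e.surjective c
    obtain ⟨hmem, e1⟩ := hψ p q hpq
    obtain ⟨hmem', e1'⟩ := hψ p q' hpq'
    change cj (e (φ (ψ ⟨e p * e q, hpq⟩))) (e c) = cj (e (φ (ψ ⟨e p * e q', hpq'⟩))) (e c) at hce
    rw [e1, e1', ← H7Fischer.map_cj, ← H7Fischer.map_cj] at hce
    exact congrArg e (hs p ((mem_image_iso he p).1 hp) q ((mem_nb_iso he p q).1 hq) q'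
      ((mem_nb_iso he p q').1 hq') hmem hmem' c ((mem_image_iso he c).1 hc) (e.injective hce))

theorem PairUnique.of_isoTo (h : IsoTo D D') (hU : PairUnique D') : PairUnique D := by
  obtain ⟨e, he⟩ := h
  intro p hp q hq r hr s hs heq
  refine (hU (e p) ((mem_image_iso he p).2 hp) (e q) ((mem_nb_iso he p q).2 hq) (e r)
    ((mem_image_iso he r).2 hr) (e s) ((mem_nb_iso he r s).2 hs) ?_).imp
    (fun q => e.injective q) (fun q => e.injective q)
  rw [← map_mul, ← map_mul, heq]

theorem FewMoves.of_isoTo (h : IsoTo D D') (hF : FewMoves D') : FewMoves D := by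
  obtain ⟨e, he⟩ := h
  obtain ⟨p, hp, q, hq, hlt⟩ := hF
  obtain ⟨p, rfl⟩ := e.surjective p
  obtain ⟨q, rfl⟩ := e.surjective q
  refine ⟨p, (mem_image_iso he p).1 hp, q, (mem_nb_iso he p q).1 hq, ?_⟩
  have h1 : e '' {x : G | Moves D x ∧ cj x p = q} = {x : G' | Moves D' x ∧ cj x (e p) = e q} := by
    ext y
    obtain ⟨y, rfl⟩ := e.surjective y
    rw [e.injective.mem_set_image, Set.mem_ofPred_eq, Set.mem_ofPred_eq, moves_iso he,
      ← H7Fischer.map_cj, e.injective.eq_iff]
  rw [← h1, Set.ncard_image_of_injective _ e.injective, ← he,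
    Set.ncard_image_of_injective _ e.injective] at hlt
  exact hlt

end Transport

/-! ### the component as a class -/

section Finite

variable [Finite G]

namespace Core

variable {L : Subgroup G} (K : Core D L)
include K

theorem le_or_bot {N : Subgroup G} (hn : L ≤ Subgroup.normalizer (N : Set G)) :
    L ≤ N ∨ N = ⊥ := by
  have := K.normal
  refine (Components.qsSub_normal K.qs hn).imp id fun h => ?_
  have hbot : ∀ z ∈ L ⊓ N, z = 1 := fun z hz => by
    have h2 : z ∈ Subgroup.centralizer (L : Set G) :=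
      Subgroup.mem_centralizer_iff.2 fun l hl => Components.commute_of_commutator_eq_bot h hl hz
    rwa [K.centralizer_eq_bot, Subgroup.mem_bot] at h2
  rw [eq_bot_iff, ← K.centralizer_eq_bot]
  intro n hnN
  refine Subgroup.mem_centralizer_iff.2 fun l hl => ?_
  have h1 : l * n * l⁻¹ * n⁻¹ = 1 := hbot _ ⟨by
    rw [show l * n * l⁻¹ * n⁻¹ = l * (n * l⁻¹ * n⁻¹) by group]
    exact mul_mem hl (K.normal.conj_mem _ (inv_mem hl) n),
    N.mul_mem ((Subgroup.mem_normalizer_iff.1 (hn hl) n).1 hnN) (N.inv_mem hnN)⟩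
  exact mul_inv_eq_iff_eq_mul.1 (mul_inv_eq_one.1 h1)

/-- A component is joined by non-commuting members. -/
theorem far_connected {a b : G} (ha : a ∈ D) (hb : b ∈ blk D a) :
    Relation.ReflTransGen (fun x y => x ∈ blk D a ∧ y ∈ blk D a ∧ ¬ Commute x y) a b := by
  have H := K.toCls
  set r := fun x y => x ∈ blk D a ∧ y ∈ blk D a ∧ ¬ Commute x y
  set X := {x | Relation.ReflTransGen r a x}
  have hX : ∀ x ∈ X, x ∈ blk D a := by
    intro x hx
    induction (hx : Relation.ReflTransGen r a x) with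
    | refl => exact self_mem_blk ha
    | tail _ h _ => exact h.2.1
  have hcl : ∀ z ∈ blk D a, ∀ x ∈ X, cj z x ∈ X := by
    intro z hz x hx
    by_cases hc : Commute z x
    · rwa [cj_eq_of_commute hc]
    refine (Relation.ReflTransGen.tail hx ⟨hX x hx, hz, fun q => hc q.symm⟩).tail
      ⟨hz, cj_mem_self H hz (hX x hx), ?_⟩
    exact (H.not_commute_cj hz.1 (hX x hx).1 hc).2
  set N := Subgroup.closure X
  have hn : L ≤ Subgroup.normalizer (N : Set G) := by
    refine (K.le_sub ha).trans ?_
    rw [sub, Subgroup.closure_le]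
    intro z hz
    rw [SetLike.mem_coe, Subgroup.mem_normalizer_iff]
    have key : ∀ h ∈ N, z * h * z⁻¹ ∈ N := by
      intro h hh
      induction hh using Subgroup.closure_induction with
      | mem y hy => exact Subgroup.subset_closure (hcl z hz y hy)
      | one => simp
      | mul p q _ _ hp hq =>
        rw [show z * (p * q) * z⁻¹ = (z * p * z⁻¹) * (z * q * z⁻¹) by group]
        exact mul_mem hp hq
      | inv p _ hp =>
        rw [show z * p⁻¹ * z⁻¹ = (z * p * z⁻¹)⁻¹ by group]
        exact inv_mem hp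
    intro h
    refine ⟨key h, fun hh => ?_⟩
    have h2 := key _ hh
    rw [H.inv' hz.1] at h2
    rwa [show z * (z * h * z) * z = (z * z) * h * (z * z) by group, H.sq hz.1, one_mul,
      mul_one] at h2
  have haN : a ∈ N := Subgroup.subset_closure Relation.ReflTransGen.refl
  have hLN : L ≤ N := (K.le_or_bot hn).resolve_right fun h => by
    rw [h, Subgroup.mem_bot] at haN
    exact H44.tt_ne_one H.cl.1 ha haN
  by_contra hbX
  have hbN : N ≤ Subgroup.centralizer {b} := by
    rw [Subgroup.closure_le]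
    intro x hx
    rw [SetLike.mem_coe, Subgroup.mem_centralizer_singleton_iff]
    by_contra hc
    exact hbX ((show Relation.ReflTransGen r a x from hx).tail ⟨hX x hx, hb, hc⟩)
  have h2 : b ∈ Subgroup.centralizer (L : Set G) := Subgroup.mem_centralizer_iff.2 fun l hl =>
    Subgroup.mem_centralizer_singleton_iff.1 (hbN (hLN hl))
  rw [K.centralizer_eq_bot, Subgroup.mem_bot] at h2
  exact H44.tt_ne_one H.cl.1 hb.1 h2

theorem map_commutator_sub {a : G} (ha : a ∈ D) :
    (commutator ↥(sub D a)).map (sub D a).subtype = L := by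
  have := K.normal
  rw [commutator_def, Subgroup.map_commutator, ← MonoidHom.range_eq_map, Subgroup.range_subtype]
  refine le_antisymm ?_ ?_
  · rw [Subgroup.commutator_le]
    intro g hg h hh
    have hq : ∀ g ∈ sub D a, QuotientGroup.mk' L g = 1 ∨
        QuotientGroup.mk' L g = QuotientGroup.mk' L a := fun g hg =>
      ((K.mem_sub_iff ha).1 hg).imp (fun h => (QuotientGroup.eq_one_iff g).2 h)
        (fun h => (QuotientGroup.eq.2 h).symm)
    rw [← QuotientGroup.eq_one_iff (N := L)]
    show QuotientGroup.mk' L _ = 1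
    rw [map_commutatorElement]
    rcases hq g hg with e | e <;> rcases hq h hh with f | f <;> rw [e, f] <;>
      simp [commutatorElement_def]
  · calc L = ⁅L, L⁆ := (Components.qsSub_perfect K.qs).symm
      _ ≤ ⁅sub D a, sub D a⁆ := Subgroup.commutator_mono (K.le_sub ha) (K.le_sub ha)

theorem commutator_sub_equiv {a : G} (ha : a ∈ D) :
    Nonempty (↥(commutator ↥(sub D a)) ≃* ↥L) :=
  ⟨((commutator ↥(sub D a)).equivMapOfInjective _ Subtype.val_injective).trans
    (MulEquiv.subgroupCongr (K.map_commutator_sub ha))⟩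

theorem perfect_commutator_sub {a : G} (ha : a ∈ D) :
    ⁅commutator ↥(sub D a), commutator ↥(sub D a)⁆ = commutator ↥(sub D a) := by
  apply Subgroup.map_injective (f := (sub D a).subtype) Subtype.val_injective
  rw [Subgroup.map_commutator, K.map_commutator_sub ha]
  exact Components.qsSub_perfect K.qs

end Core

theorem commute_coe {a : G} (x y : ↥(sub D a)) : Commute (x : G) y ↔ Commute x y :=
  ⟨fun h => Subtype.ext h, fun h => congrArg Subtype.val h⟩

theorem mem_nb_cls {a : G} (c x : ↥(sub D a)) (hc : c ∈ cls D a) :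
    x ∈ nb (cls D a) c ↔ (x : G) ∈ nb D (c : G) :=
  ⟨fun h => ⟨h.1.1, fun q => h.2.1 (Subtype.ext q), (commute_coe c x).2 h.2.2⟩,
    fun h => ⟨nb_subset_blk' hc h, fun q => h.2.1 (congrArg Subtype.val q),
      (commute_coe c x).1 h.2.2⟩⟩

theorem cls_component (H : Cls D) {a : G} (ha : a ∈ D) : Cls (cls D a) := by
  obtain ⟨L, K⟩ := exists_core H
  have mk : ∀ {x : G} (h : x ∈ blk D a), x ∈ sub D a := fun h => Subgroup.subset_closure h
  refine ⟨⟨⟨fun x hx => ?_, fun x hx y hy => ?_⟩, ⟨⟨a, mk (self_mem_blk ha)⟩, self_mem_blk ha,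
    Set.ext fun x => ⟨fun hx => ?_, fun hx => ?_⟩⟩, ?_⟩, fun N hN hs => ?_⟩
  · rw [← Subgroup.orderOf_coe]
    exact H.cl.1.1 _ (show (x : G) ∈ blk D a from hx).1
  · rcases H.cl.1.2 _ (show (x : G) ∈ blk D a from hx).1 _ (show (y : G) ∈ blk D a from hy).1
      with h | h
    · exact Or.inl (Subtype.ext h)
    · exact Or.inr (Subtype.ext h)
  · have key : ∀ b, Relation.ReflTransGen
        (fun x y => x ∈ blk D a ∧ y ∈ blk D a ∧ ¬ Commute x y) a b →
        ∃ k ∈ sub D a, k * a * k⁻¹ = b := by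
      intro b h
      induction h with
      | refl => exact ⟨1, one_mem _, by group⟩
      | @tail p q _ hpq ih =>
        obtain ⟨k, hk, rfl⟩ := ih
        refine ⟨k * a * k⁻¹ * q * k, mul_mem (mul_mem (mk hpq.1) (mk hpq.2.1)) hk, ?_⟩
        set p := k * a * k⁻¹ with hp
        calc p * q * k * a * (p * q * k)⁻¹ = cj (p * q) p := by rw [hp]; simp only [cj]; group
          _ = q := by
            rw [← cj_cj, H.braid hpq.2.1.1 hpq.1.1 fun h => hpq.2.2 h.symm, H.cj_invol hpq.1.1]
    obtain ⟨k, hk, e⟩ := key _ (K.far_connected ha hx)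
    exact isConj_iff.2 ⟨⟨k, hk⟩, Subtype.ext e⟩
  · obtain ⟨k, rfl⟩ := isConj_iff.1 hx
    obtain ⟨k, hk⟩ := k
    clear hx
    show k * a * k⁻¹ ∈ blk D a
    induction hk using Subgroup.closure_induction_left with
    | one => simpa using self_mem_blk ha
    | mul_left y hy p _ ih =>
      rw [show y * p * a * (y * p)⁻¹ = cj y (p * a * p⁻¹) by simp only [cj]; group]
      exact cj_mem_self H hy ih
    | inv_mul_cancel y hy p _ ih =>
      rw [show y⁻¹ * p * a * (y⁻¹ * p)⁻¹ = cj y⁻¹ (p * a * p⁻¹) by simp only [cj]; group,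
        H.inv' hy.1]
      exact cj_mem_self H hy ih
  · exact Subgroup.closure_closure_coe_preimage
  · set N' := N.map (sub D a).subtype with hN'
    have hn : L ≤ Subgroup.normalizer (N' : Set G) := by
      refine (K.le_sub ha).trans ?_
      have := Subgroup.le_normalizer_map (H := N) (sub D a).subtype
      rwa [Subgroup.normalizer_eq_top_iff.2 hN, ← MonoidHom.range_eq_map,
        Subgroup.range_subtype] at this
    rcases K.le_or_bot hn with h | h
    · exfalso
      have : Group.IsSolvable ↥N' :=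
        Group.isSolvable_of_surjective (f := (sub D a).subtype.subgroupMap N)
          (MonoidHom.subgroupMap_surjective _ _)
      exact Components.qs_not_isSolvable K.qs
        (Group.isSolvable_of_isSolvable_injective (f := Subgroup.inclusion h) (Subgroup.inclusion_injective h))
    · exact (Subgroup.map_eq_bot_iff_of_injective _ Subtype.val_injective).1 h

theorem conn_component {a : G} (ha : a ∈ D) : Conn (cls D a) := by
  have mk : ∀ {x : G} (h : x ∈ blk D a), x ∈ sub D a := fun h => Subgroup.subset_closure h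
  have : Nonempty ↥(cls D a) := ⟨⟨⟨a, mk (self_mem_blk ha)⟩, self_mem_blk ha⟩⟩
  refine SimpleGraph.Connected.mk fun x y => ?_
  have key : ∀ {v : G}, Rl D a v → ∀ (hv : v ∈ blk D a),
      (Cfsg.commutingGraph (cls D a)).Reachable ⟨⟨a, mk (self_mem_blk ha)⟩, self_mem_blk ha⟩
        ⟨⟨v, mk hv⟩, hv⟩ := by
    intro v h
    induction h with
    | refl => intro _; exact SimpleGraph.Reachable.refl _
    | @tail w v haw hwv ih =>
      intro hv
      have hw : w ∈ blk D a := ⟨hwv.1, haw⟩
      refine (ih hw).trans ?_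
      rcases eq_or_ne w v with rfl | hne
      · exact SimpleGraph.Reachable.refl _
      exact SimpleGraph.Adj.reachable ((SimpleGraph.fromRel_adj _ _ _).2
        ⟨fun e => hne (congrArg (fun z : ↥(cls D a) => ((z : ↥(sub D a)) : G)) e),
          Or.inl ((commute_coe (⟨w, mk hw⟩ : ↥(sub D a)) ⟨v, mk hv⟩).1 hwv.2.2)⟩)
  exact (key x.2.2 x.2).symm.trans (key y.2.2 y.2)

theorem twist_component (H : Cls D) (hdisc : ¬ Conn D) {a : G} (ha : a ∈ D) :
    Twist (cls D a) := by
  obtain ⟨L, K⟩ := exists_core H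
  obtain ⟨d, hd, hda⟩ := exists_not_mem H hdisc ha
  obtain ⟨g, hg⟩ := H.exists_cj ha hd
  have hmemL : ∀ y : ↥(commutator ↥(sub D a)), cj g ((y : ↥(sub D a)) : G) ∈ L := fun y =>
    K.normal.conj_mem _ (K.map_commutator_sub ha ▸ ⟨_, y.2, rfl⟩) g
  let φ : ↥(commutator ↥(sub D a)) →* ↥(sub D a) :=
    { toFun := fun y => ⟨cj g ((y : ↥(sub D a)) : G), K.le_sub ha (hmemL y)⟩
      map_one' := Subtype.ext (by simp [cj])
      map_mul' := fun y z => Subtype.ext (by simp [cj]) }
  refine ⟨φ, fun y z h => Subtype.ext (Subtype.ext (cj_injective g (congrArg Subtype.val h))),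
    fun p hp q hq h => ?_, fun p hp q hq q' hq' h h' c hc hce => ?_⟩
  swap
  · have hd1 : cj g (p : G) ∈ blk D d := hg ▸ cj_mem_blk H g hp
    have hd2 : cj g (q : G) ∈ nb D (cj g (p : G)) := H.cj_nb g ((mem_nb_cls p q hp).1 hq)
    have hd2' : cj g (q' : G) ∈ nb D (cj g (p : G)) := H.cj_nb g ((mem_nb_cls p q' hp).1 hq')
    have hc' : (c : G) ∈ blk D a := hc
    have hnc : ∀ z ∈ nb D (cj g (p : G)), ¬ Commute z (c : G) := fun z hz hz' => hda (by
      rw [← blk_eq hc', blk_eq (blk_of_commute hc'.1 hz.1 hz'.symm) |>.symm,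
        blk_eq (nb_subset_blk hd1.1 hz), blk_eq hd1]
      exact self_mem_blk hd)
    have hv : ∀ (z : ↥(sub D a)) (hz : p * z ∈ commutator ↥(sub D a)),
        (φ ⟨p * z, hz⟩ : G) = cj g (p : G) * cj g (z : G) := fun z hz => by
      show cj g ((p : G) * (z : G)) = _
      simp [cj]
    have h1 : cj (cj g (p : G) * cj g (q : G)) (c : G) = cj (cj g (p : G) * cj g (q' : G)) c := by
      rw [← hv q h, ← hv q' h']
      exact congrArg Subtype.val hce
    rw [← cj_cj (cj g (p : G)) (cj g (q : G)), ← cj_cj (cj g (p : G)) (cj g (q' : G))] at h1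
    have h2 := cj_injective _ h1
    rw [H.braid hd2.1 hc'.1 (hnc _ hd2), H.braid hd2'.1 hc'.1 (hnc _ hd2')] at h2
    exact Subtype.ext (cj_injective g (cj_injective _ h2))
  have hd1 : cj g (p : G) ∈ blk D d := hg ▸ cj_mem_blk H g hp
  have hd2 : cj g (q : G) ∈ nb D (cj g (p : G)) := H.cj_nb g ((mem_nb_cls p q hp).1 hq)
  have hx : (φ ⟨p * q, h⟩ : G) = cj g (p : G) * cj g (q : G) := by
    show cj g ((p : G) * (q : G)) = _
    simp [cj]
  refine ⟨Subtype.ext ?_, fun c hc => ?_⟩
  · rw [Subgroup.coe_mul, hx, Subgroup.coe_one, mul_assoc, ← mul_assoc (cj g (q : G)),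
      ← hd2.2.2.eq, mul_assoc (cj g (p : G)), H.sq hd2.1, mul_one, H.sq hd1.1]
  · rw [mem_nb_cls c _ hc]
    show cj (φ ⟨p * q, h⟩ : G) (c : G) ∈ _
    rw [hx]
    refine slide H hd1.1 hd2 (show (c : G) ∈ blk D a from hc).1 fun hmem => hda ?_
    rw [← blk_eq (show (c : G) ∈ blk D a from hc), blk_eq hmem, blk_eq hd1]
    exact self_mem_blk hd

end Finite

end Cfsg.Agent.H97.Fischer
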