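import Cfsg.Agent.H97.Fischer.Component

/-!
Disconnected commuting graph: if few involutions of a component move a given member to a given one,
there are three components and the quotient by the simple normal subgroup is the symmetric group of
degree 3.
-/

set_option autoImplicit false
set_option linter.unusedSectionVars false

namespace Cfsg.Agent.H97.Fischer

open Cfsg
open H76.LocallyS3 (nb cj cj_cj cj_injective commute_cj_iff)
open H80.TTQuad (Cls cj_one cj_inv_cj cj_cj_inv cj_eq_of_commute commute_of_cj_eq nb_symm)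
open H7Fischer (Conn)

universe u

variable {G : Type u} [Group G] [Finite G] {D : Set G}

theorem ncard_nb_eq (H : Cls D) {x y : G} (hx : x ∈ D) (hy : y ∈ D) :
    (nb D x).ncard = (nb D y).ncard := by
  obtain ⟨g, rfl⟩ := H.exists_cj hx hy
  have e : cj g '' nb D x = nb D (cj g x) := by
    refine Set.Subset.antisymm (fun _ ⟨b, hb, e⟩ => e ▸ H.cj_nb g hb) fun z hz => ?_
    refine ⟨cj g⁻¹ z, ?_, cj_cj_inv g z⟩
    have := H.cj_nb g⁻¹ hz
    rwa [cj_inv_cj] at this
  rw [← e, Set.ncard_image_of_injective _ (cj_injective g)]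

theorem ncard_blk_eq (H : Cls D) {x y : G} (hx : x ∈ D) (hy : y ∈ D) :
    (blk D x).ncard = (blk D y).ncard := by
  obtain ⟨g, rfl⟩ := H.exists_cj hx hy
  rw [← cj_image_blk H, Set.ncard_image_of_injective _ (cj_injective g)]

theorem ncard_cls (a : G) : (cls D a).ncard = (blk D a).ncard := by
  have : (fun x : ↥(sub D a) => (x : G)) '' cls D a = blk D a := by
    ext x
    exact ⟨fun ⟨y, hy, e⟩ => e ▸ hy, fun hx => ⟨⟨x, Subgroup.subset_closure hx⟩, hx, rfl⟩⟩
  rw [← this, Set.ncard_image_of_injective _ Subtype.val_injective]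

/-- Given a commuting pair in one component, a member of another component is in exactly one pair
whose product carries the first member to the second. -/
theorem exists_pair_to (H : Cls D) {a p q d : G} (hp : p ∈ blk D a) (hq : q ∈ nb D p)
    (hd : d ∈ D) (hda : d ∉ blk D a) : ∃ d' ∈ nb D d, cj (d * d') p = q := by
  have hmaps : ∀ d' ∈ nb D d, cj (d * d') p ∈ nb D p := fun d' hd' =>
    slide H hd hd' hp.1 fun h => hda (by
      rw [← blk_eq hp, blk_eq h]
      exact self_mem_blk hd)
  have hinj : Set.InjOn (fun d' => cj (d * d') p) (nb D d) := by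
    intro x hx y hy e
    have e' : cj x p = cj y p := cj_injective d (by rw [cj_cj, cj_cj]; exact e)
    have hnc : ∀ z ∈ nb D d, ¬ Commute z p := fun z hz h => hda (by
      rw [← blk_eq hp, blk_eq (blk_of_commute hp.1 hz.1 h.symm) |>.symm,
        blk_eq (nb_subset_blk hd hz)]
      exact self_mem_blk hd)
    rw [H.braid hx.1 hp.1 (hnc x hx), H.braid hy.1 hp.1 (hnc y hy)] at e'
    exact cj_injective p e'
  have himg : (fun d' => cj (d * d') p) '' nb D d = nb D p := by
    refine Set.eq_of_subset_of_ncard_le (by rintro _ ⟨x, hx, rfl⟩; exact hmaps x hx) ?_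
      (Set.toFinite _)
    rw [Set.InjOn.ncard_image hinj, ncard_nb_eq H hp.1 hd]
  rw [← himg] at hq
  exact hq

/-- The involutions arising from another component. -/
def fromBlk (D : Set G) (B : Set G) (p q : G) : Set G :=
  {x | ∃ d ∈ B, ∃ d' ∈ nb D d, x = d * d' ∧ cj x p = q}

theorem three_blocks (H : Cls D) (hdisc : ¬ Conn D) {a : G} (ha : a ∈ D)
    (hU : PairUnique (cls D a)) (hF : FewMoves (cls D a)) :
    ∃ b ∈ D, b ∉ blk D a ∧ ∀ x ∈ D, x ∈ blk D a ∨ x ∈ blk D b ∨ x ∈ blk D (cj a b) := by
  classical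
  obtain ⟨L, K⟩ := exists_core H
  obtain ⟨b, hb, hba⟩ := exists_not_mem H hdisc ha
  refine ⟨b, hb, hba, ?_⟩
  by_contra hall
  push Not at hall
  obtain ⟨w, hw, hwa, hwb, hwc⟩ := hall
  set c := cj a b with hc
  have hcD : c ∈ D := H.mem_cj a hb
  have hcn : c ∉ blk D a ∧ c ∉ blk D b := by
    rw [hc, H.braid ha hb (not_commute_of_not_mem ha hb hba)]
    exact not_mem_cj H ha hb hba
  obtain ⟨p, hp, q, hq, hlt⟩ := hF
  have hqG := (mem_nb_cls p q hp).1 hq
  set X : Set G := (fun x : ↥(sub D a) => (x : G)) '' {x | Moves (cls D a) x ∧ cj x p = q}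
  have hX : X.ncard = {x : ↥(sub D a) | Moves (cls D a) x ∧ cj x p = q}.ncard :=
    Set.ncard_image_of_injective _ Subtype.val_injective
  have hsub : ∀ d ∈ D, d ∉ blk D a → fromBlk D (blk D d) p q ⊆ X := by
    rintro d hd hda x ⟨e, he, e', he', rfl, hx⟩
    have hmem : e * e' ∈ sub D a := K.le_sub ha (K.mul_mem_core he (nb_subset_blk' he he'))
    refine ⟨⟨_, hmem⟩, ⟨⟨Subtype.ext ?_, fun z hz => ?_⟩, Subtype.ext hx⟩, rfl⟩
    · show e * e' * (e * e') = 1
      rw [mul_assoc, ← mul_assoc e', ← he'.2.2.eq, mul_assoc e, H.sq he'.1, mul_one, H.sq he.1]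
    · rw [mem_nb_cls z _ hz]
      refine slide H he.1 he' (show (z : G) ∈ blk D a from hz).1 fun h => hda ?_
      rw [← blk_eq (show (z : G) ∈ blk D a from hz), blk_eq h, blk_eq he]
      exact self_mem_blk hd
  have hUd : ∀ d ∈ D, ∀ x ∈ blk D d, ∀ x' ∈ nb D x, ∀ y ∈ blk D d, ∀ y' ∈ nb D y,
      x * x' = y * y' → y = x ∨ y = x' := by
    intro d hd
    obtain ⟨g, hg⟩ := H.exists_cj hd ha
    intro x hx x' hx' y hy y' hy' he
    have m : ∀ {z}, z ∈ blk D d → cj g z ∈ blk D a := fun h => hg ▸ cj_mem_blk H g h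
    have mk : ∀ {z}, z ∈ blk D d → cj g z ∈ sub D a := fun h => Subgroup.subset_closure (m h)
    refine (hU ⟨_, mk hx⟩ (m hx) ⟨_, mk (nb_subset_blk' hx hx')⟩
      ((mem_nb_cls (⟨_, mk hx⟩ : ↥(sub D a)) ⟨_, mk (nb_subset_blk' hx hx')⟩ (m hx)).2
        (H.cj_nb g hx')) ⟨_, mk hy⟩ (m hy) ⟨_, mk (nb_subset_blk' hy hy')⟩
      ((mem_nb_cls (⟨_, mk hy⟩ : ↥(sub D a)) ⟨_, mk (nb_subset_blk' hy hy')⟩ (m hy)).2
        (H.cj_nb g hy')) (Subtype.ext ?_)).imp (fun e => cj_injective g (congrArg Subtype.val e))
      fun e => cj_injective g (congrArg Subtype.val e)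
    have := congrArg (cj g) he
    simp only [cj] at this ⊢
    calc g * x * g⁻¹ * (g * x' * g⁻¹) = g * (x * x') * g⁻¹ := by group
      _ = g * (y * y') * g⁻¹ := this
      _ = _ := by simp only [Subgroup.coe_mul]; group
  have hbig : ∀ d ∈ D, d ∉ blk D a → (blk D a).ncard ≤ 2 * (fromBlk D (blk D d) p q).ncard := by
    intro d hd hda
    rw [ncard_blk_eq H ha hd]
    have hpair : ∀ e ∈ blk D d, ∃ e' ∈ nb D e, cj (e * e') (p : G) = q := fun e he =>
      exists_pair_to H hp hqG he.1 fun h => hda (by
        rw [← blk_eq h, blk_eq he]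
        exact self_mem_blk hd)
    choose f hf hfq using hpair
    let S : Finset G := (Set.toFinite (blk D d)).toFinset
    let T : Finset G := (Set.toFinite (fromBlk D (blk D d) p q)).toFinset
    let F : G → G := fun e => if h : e ∈ blk D d then e * f e h else 1
    rw [Set.ncard_eq_toFinset_card _ (Set.toFinite (blk D d)),
      Set.ncard_eq_toFinset_card _ (Set.toFinite (fromBlk D (blk D d) p q))]
    refine (Finset.card_le_mul_card_image_of_maps_to (f := F) (s := S) (t := T) ?_ 2 ?_)
    · intro e he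
      have he' : e ∈ blk D d := (Set.Finite.mem_toFinset _).1 he
      refine (Set.Finite.mem_toFinset _).2 ⟨e, he', f e he', hf e he', ?_, ?_⟩ <;>
        simp only [F, dif_pos he']
      exact hfq e he'
    · intro x hx
      obtain ⟨e, he, e', he', rfl, -⟩ := (Set.Finite.mem_toFinset _).1 hx
      refine le_trans (Finset.card_le_card (t := {e, e'}) fun z hz => ?_) Finset.card_le_two
      obtain ⟨hz1, hz2⟩ := Finset.mem_filter.1 hz
      have hz' : z ∈ blk D d := (Set.Finite.mem_toFinset _).1 hz1
      simp only [F, dif_pos hz'] at hz2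
      rcases hUd d hd e he e' he' z hz' _ (hf z hz') hz2.symm with h | h <;> simp [h]
  have hdisj : ∀ d ∈ D, ∀ d' ∈ D, d' ∉ blk D d →
      Disjoint (fromBlk D (blk D d) p q) (fromBlk D (blk D d') p q) := by
    intro d hd d' hd' hne
    rw [Set.disjoint_left]
    rintro x ⟨e, he, e', he', rfl, -⟩ ⟨f, hf, f', hf', heq, -⟩
    have h1 : cj (e * e') e = e := cj_eq_of_commute
      ((Commute.refl e).mul_left he'.2.2.symm)
    refine (slide H hf.1 hf' he.1 fun h => hne ?_).2.1 (heq ▸ h1)
    rw [← blk_eq he, blk_eq h, blk_eq hf]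
    exact self_mem_blk hd'
  have h1 := hbig b hb hba
  have h2 := hbig c hcD hcn.1
  have h3 := hbig w hw hwa
  have hwc' : w ∉ blk D c := hwc
  have hU' : (fromBlk D (blk D b) p q ∪ fromBlk D (blk D c) p q ∪ fromBlk D (blk D w) p q).ncard =
      (fromBlk D (blk D b) p q).ncard + (fromBlk D (blk D c) p q).ncard +
        (fromBlk D (blk D w) p q).ncard := by
    rw [Set.ncard_union_eq (Set.disjoint_union_left.2 ⟨hdisj b hb w hw hwb, hdisj c hcD w hw hwc'⟩)
        (Set.toFinite _) (Set.toFinite _),
      Set.ncard_union_eq (hdisj b hb c hcD hcn.2) (Set.toFinite _) (Set.toFinite _)]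
  have h4 := Set.ncard_le_ncard
    (Set.union_subset (Set.union_subset (hsub b hb hba) (hsub c hcD hcn.1)) (hsub w hw hwa))
    (Set.toFinite X)
  rw [hU', hX] at h4
  rw [ncard_cls] at hlt
  omega

/-- A group generated by two involutions with product of order three is the symmetric group. -/
theorem equiv_perm_three {Q : Type*} [Group Q] [Finite Q] {x y : Q} (hx : x * x = 1)
    (hy : y * y = 1) (hbr : x * y * x = y * x * y) (hne : x ≠ y) (hx1 : x ≠ 1) (hy1 : y ≠ 1)
    (hz : x * y * x ≠ y) (hgen : Subgroup.closure ({x, y} : Set Q) = ⊤) :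
    Nonempty (Q ≃* Equiv.Perm (Fin 3)) := by
  classical
  set z := x * y * x with hzd
  have hzx : z ≠ x := by
    intro e
    refine hne ?_
    calc x = x * (x * y * x) * x := by rw [show x * y * x = x from e, hx, one_mul]
      _ = (x * x) * y * (x * x) := by group
      _ = y := by rw [hx, one_mul, mul_one]
  set E : Set Q := {x, y, z}
  have hcy : cj x y = z := by rw [cj, inv_eq_of_mul_eq_one_left hx]
  have hcx : cj y x = z := by rw [cj, inv_eq_of_mul_eq_one_left hy]; exact hbr.symm
  have hxz : cj x z = y := by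
    rw [← hcy, cj_cj, hx, cj_one]
  have hyz : cj y z = x := by
    rw [← hcx, cj_cj, hy, cj_one]
  have hE : ∀ g : Q, ∀ e ∈ E, cj g e ∈ E := by
    intro g
    induction (hgen ▸ Subgroup.mem_top g : g ∈ Subgroup.closure ({x, y} : Set Q)) using
      Subgroup.closure_induction_left with
    | one => intro e he; rwa [cj_one]
    | mul_left s hs p _ ih =>
      intro e he
      rw [← cj_cj]
      rcases hs with rfl | rfl <;> rcases ih e he with h | h | h <;> rw [h] <;>
        simp [E, cj_eq_of_commute (Commute.refl _), hcy, hcx, hxz, hyz]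
    | inv_mul_cancel s hs p _ ih =>
      intro e he
      rw [← cj_cj]
      rcases hs with rfl | rfl
      all_goals
        first | rw [inv_eq_of_mul_eq_one_left hx] | rw [inv_eq_of_mul_eq_one_left hy]
        rcases ih e he with h | h | h <;> rw [h] <;>
          simp [E, cj_eq_of_commute (Commute.refl _), hcy, hcx, hxz, hyz]
  let ρ : Q →* Equiv.Perm ↥E :=
    { toFun := fun g =>
        { toFun := fun e => ⟨cj g e, hE g e e.2⟩
          invFun := fun e => ⟨cj g⁻¹ e, hE g⁻¹ e e.2⟩
          left_inv := fun e => Subtype.ext (cj_inv_cj g e)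
          right_inv := fun e => Subtype.ext (cj_cj_inv g e) }
      map_one' := Equiv.ext fun e => Subtype.ext (cj_one _)
      map_mul' := fun g h => Equiv.ext fun e => Subtype.ext (cj_cj g h _).symm }
  have hinj : Function.Injective ρ := by
    rw [injective_iff_map_eq_one]
    intro g hg
    have hfix : ∀ e ∈ E, Commute g e := fun e he =>
      commute_of_cj_eq (congrArg Subtype.val (DFunLike.congr_fun hg ⟨e, he⟩))
    have hgx := hfix x (Or.inl rfl)
    have hgy := hfix y (Or.inr (Or.inl rfl))
    have hxy : ¬ Commute x y := fun h => hz (by rw [hzd, h.eq, mul_assoc, hx, mul_one])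
    have hset : ∀ g : Q, g ∈ ({1, x, y, x * y, y * x, z} : Set Q) := by
      intro g
      induction (hgen ▸ Subgroup.mem_top g : g ∈ Subgroup.closure ({x, y} : Set Q)) using
        Subgroup.closure_induction_left with
      | one => simp
      | mul_left s hs p _ ih =>
        rcases hs with rfl | rfl <;> rcases ih with h | h | h | h | h | h <;> rw [h] <;>
          simp [hzd, hx, hy, ← mul_assoc]
        all_goals (rw [← hbr]; simp [hzd, mul_assoc, hx])
      | inv_mul_cancel s hs p _ ih =>
        rcases hs with rfl | rfl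
        all_goals
          first | rw [inv_eq_of_mul_eq_one_left hx] | rw [inv_eq_of_mul_eq_one_left hy]
          rcases ih with h | h | h | h | h | h <;> rw [h] <;>
            simp [hzd, hx, hy, ← mul_assoc]
          all_goals (rw [← hbr]; simp [hzd, mul_assoc, hx])
    rcases hset g with h | h | h | h | h | h
    · exact h
    · exact absurd (h ▸ hgy) hxy
    · exact absurd (h ▸ hgx).symm hxy
    · refine absurd ?_ hxy
      have h1 : x * y * x = x * (x * y) := (h ▸ hgx : Commute (x * y) x).eq
      rw [← mul_assoc, hx, one_mul] at h1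
      exact absurd h1 hz
    · refine absurd ?_ hxy
      have h1 : y * x * x = x * (y * x) := (h ▸ hgx : Commute (y * x) x).eq
      rw [mul_assoc, hx, mul_one, ← mul_assoc] at h1
      exact absurd h1.symm hz
    · refine absurd ?_ hxy
      have h1 : z * x = x * z := (h ▸ hgx : Commute z x).eq
      rw [hzd, mul_assoc _ x x, hx, mul_one, ← mul_assoc, ← mul_assoc, hx, one_mul] at h1
      exact h1
  have hcard : Nat.card ↥E = 3 := by
    rw [Nat.card_coe_set_eq]
    exact Set.ncard_eq_three.2 ⟨x, y, z, hne, hzx.symm, Ne.symm hz, rfl⟩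
  obtain ⟨e3⟩ : Nonempty (↥E ≃ Fin 3) := ⟨Finite.equivFinOfCardEq hcard⟩
  have hdvd : Nat.card Q ∣ 6 := by
    have := Subgroup.card_dvd_of_injective ρ hinj
    rwa [Nat.card_perm, hcard] at this
  have h5 : 5 ≤ Nat.card Q := by
    have hs : ({1, x, y, z, x * y} : Finset Q).card = 5 := by
      have n1 : x * y ≠ 1 := fun e => hne (by
        rw [eq_inv_of_mul_eq_one_left e, inv_eq_of_mul_eq_one_left hy])
      have n2 : x * y ≠ x := fun e => hy1 (mul_eq_left.1 e)
      have n3 : x * y ≠ y := fun e => hx1 (mul_eq_right.1 e)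
      have n4 : x * y ≠ z := fun e => hx1 (by
        rw [hzd] at e
        exact mul_eq_left.1 e.symm)
      have n5 : z ≠ 1 := fun e => hy1 (by
        have e' : x * (x * y * x) * x = 1 := by rw [show x * y * x = 1 from e, mul_one, hx]
        rwa [show x * (x * y * x) * x = (x * x) * y * (x * x) by group, hx, one_mul, mul_one] at e')
      simp [hne, hx1.symm, hy1.symm, hzx.symm, Ne.symm hz, n1.symm, n2.symm, n3.symm, n4.symm,
        n5.symm]
    have : Fintype Q := Fintype.ofFinite Q
    rw [Nat.card_eq_fintype_card, ← hs]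
    exact Finset.card_le_univ _
  have h6 : Nat.card Q = 6 := by
    have := Nat.le_of_dvd (by norm_num) hdvd
    interval_cases Nat.card Q
    · norm_num at hdvd
    · rfl
  have hbij : Function.Bijective ρ := by
    refine (Nat.bijective_iff_injective_and_card ρ).2 ⟨hinj, ?_⟩
    rw [h6, Nat.card_perm, hcard]
    rfl
  exact ⟨(MulEquiv.ofBijective ρ hbij).trans e3.permCongrHom⟩

theorem quotient_equiv (H : Cls D) {L : Subgroup G} (K : Core D L) [L.Normal] {a b : G}
    (ha : a ∈ D) (hb : b ∈ D) (hba : b ∉ blk D a)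
    (hall : ∀ x ∈ D, x ∈ blk D a ∨ x ∈ blk D b ∨ x ∈ blk D (cj a b)) :
    Nonempty (G ⧸ L ≃* Equiv.Perm (Fin 3)) := by
  set π := QuotientGroup.mk' L
  have hn := not_commute_of_not_mem ha hb hba
  have hπ : ∀ {x y}, x ∈ blk D y → π x = π y := fun h =>
    (QuotientGroup.eq.2 (K.inv_mul_mem h.2)).symm
  have hfix : ∀ {g x}, π g = 1 → x ∈ D → cj g x ∈ blk D x := fun h hx =>
    K.fix_blk ((QuotientGroup.eq_one_iff _).1 h) hx
  have hsqa : π a * π a = 1 := by rw [← map_mul, H.sq ha, map_one]
  have hsqb : π b * π b = 1 := by rw [← map_mul, H.sq hb, map_one]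
  have hcj : π a * π b * π a = π (cj a b) := by
    rw [cj, H.inv' ha, map_mul, map_mul]
  have hnm := not_mem_cj H ha hb hba
  have hba' : cj a b ∉ blk D b := by
    rw [H.braid ha hb hn]
    exact hnm.2
  refine equiv_perm_three (x := π a) (y := π b) hsqa hsqb ?_ (fun e => ?_) (fun e => ?_)
    (fun e => ?_) (fun e => ?_) ?_
  · rw [hcj, H.braid ha hb hn, cj, H.inv' hb, map_mul, map_mul]
  · have h1 : π (b * a) = 1 := by rw [map_mul, e, hsqb]
    have h2 := hfix h1 ha
    rw [← cj_cj, cj_eq_of_commute (Commute.refl a)] at h2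
    exact hnm.1 h2
  · have h2 := hfix e hb
    exact hba' h2
  · have h2 := hfix e ha
    exact hnm.1 h2
  · rw [hcj] at e
    have h1 : π (cj a b * b) = 1 := by rw [map_mul, e, hsqb]
    have h2 := hfix h1 ha
    rw [← cj_cj] at h2
    have e1 : cj (cj a b) (cj b a) = cj a b := by
      rw [← H.braid ha hb hn]
      exact cj_eq_of_commute (Commute.refl _)
    rw [e1, H.braid ha hb hn] at h2
    exact hnm.1 h2
  · rw [← top_le_iff, ← Subgroup.map_top_of_surjective π (QuotientGroup.mk'_surjective L),
      ← H.cl.2.2, MonoidHom.map_closure, Subgroup.closure_le]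
    rintro _ ⟨x, hx, rfl⟩
    have ma : π a ∈ Subgroup.closure ({π a, π b} : Set (G ⧸ L)) :=
      Subgroup.subset_closure (Or.inl rfl)
    have mb : π b ∈ Subgroup.closure ({π a, π b} : Set (G ⧸ L)) :=
      Subgroup.subset_closure (Or.inr rfl)
    rcases hall x hx with h | h | h <;> rw [SetLike.mem_coe, hπ h]
    · exact ma
    · exact mb
    · rw [← hcj]
      exact mul_mem (mul_mem ma mb) ma

end Cfsg.Agent.H97.Fischer
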