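import Mathlib

/-!
The orthogonal skew matrices of size six over the field with three elements, and the vectors of one
norm in dimension eight.
-/

set_option autoImplicit false

namespace Cfsg.Agent.H97.Fischer.Skew

/-- The field. -/
def vals : List (ZMod 3) := [0, 1, 2]

theorem mem_vals : ∀ x : ZMod 3, x ∈ vals := by decide

/-- The free entries of the first three rows, one by one. -/
abbrev Key : Type :=
  (ZMod 3 × ZMod 3 × ZMod 3 × ZMod 3 × ZMod 3) × (ZMod 3 × ZMod 3 × ZMod 3 × ZMod 3) ×
    (ZMod 3 × ZMod 3 × ZMod 3) × (ZMod 3 × ZMod 3) × ZMod 3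

/-- All five-tuples, four-tuples, triples and pairs. -/
def t2 : List (ZMod 3 × ZMod 3) := vals ×ˢ vals

/-- Triples. -/
def t3 : List (ZMod 3 × ZMod 3 × ZMod 3) := vals ×ˢ t2

/-- Four-tuples. -/
def t4 : List (ZMod 3 × ZMod 3 × ZMod 3 × ZMod 3) := vals ×ˢ t3

/-- Five-tuples. -/
def t5 : List (ZMod 3 × ZMod 3 × ZMod 3 × ZMod 3 × ZMod 3) := vals ×ˢ t4

/-- The skew matrix `(a b c d e | f g h i | j k l | m n | o)` with orthogonal rows of length one,
row by row. -/
def sols : List Key :=
  (t5.filter fun r => r.1 * r.1 + r.2.1 * r.2.1 + r.2.2.1 * r.2.2.1 + r.2.2.2.1 * r.2.2.2.1 +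
      r.2.2.2.2 * r.2.2.2.2 == 1).flatMap fun (a, b, c, d, e) =>
    (t4.filter fun (f, g, h, i) =>
        a * a + f * f + g * g + h * h + i * i == 1 && b * f + c * g + d * h + e * i == 0).flatMap
      fun (f, g, h, i) =>
      (t3.filter fun (j, k, l) =>
          b * b + f * f + j * j + k * k + l * l == 1 &&
            a * (-f) + c * j + d * k + e * l == 0 &&
            a * b + g * j + h * k + i * l == 0).flatMap fun (j, k, l) =>
        (t2.filter fun (m, n) =>
            c * c + g * g + j * j + m * m + n * n == 1 &&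
              a * (-g) + b * (-j) + d * m + e * n == 0 &&
              a * c + f * (-j) + h * m + i * n == 0 &&
              b * c + f * g + k * m + l * n == 0).flatMap fun (m, n) =>
          (vals.filter fun o =>
              d * d + h * h + k * k + m * m + o * o == 1 &&
                e * e + i * i + l * l + n * n + o * o == 1 &&
                a * (-h) + b * (-k) + c * (-m) + e * o == 0 &&
                d * e + h * i + k * l + m * n == 0 &&
                a * d + f * (-k) + g * (-m) + i * o == 0 &&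
                b * d + f * h + j * (-m) + l * o == 0 &&
                c * d + g * h + j * k + n * o == 0 &&
                a * (-i) + b * (-l) + c * (-n) + d * (-o) == 0).map fun o =>
            ((a, b, c, d, e), (f, g, h, i), (j, k, l), (m, n), o)

theorem length_sols : sols.length = 1080 := by decide +kernel

theorem mem_sols {M : Fin 6 → Fin 6 → ZMod 3} (hskew : ∀ p q, M q p = -M p q)
    (horth : ∀ p q, ∑ r, M p r * M q r = if p = q then 1 else 0) :
    ((M 0 1, M 0 2, M 0 3, M 0 4, M 0 5), (M 1 2, M 1 3, M 1 4, M 1 5), (M 2 3, M 2 4, M 2 5),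
      (M 3 4, M 3 5), M 4 5) ∈ sols := by
  have hd : ∀ p, M p p = 0 := fun p =>
    (show ∀ x : ZMod 3, x = -x → x = 0 by decide) _ (hskew p p)
  have E : ∀ p q : Fin 6, M p 0 * M q 0 + M p 1 * M q 1 + M p 2 * M q 2 + M p 3 * M q 3 +
      M p 4 * M q 4 + M p 5 * M q 5 = if p = q then 1 else 0 := fun p q => by
    rw [← horth p q, Fin.sum_univ_six]
  have e00 := E 0 0
  have e11 := E 1 1
  have e01 := E 0 1
  have e22 := E 2 2
  have e02 := E 0 2
  have e12 := E 1 2
  have e33 := E 3 3
  have e03 := E 0 3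
  have e13 := E 1 3
  have e23 := E 2 3
  have e44 := E 4 4
  have e55 := E 5 5
  have e04 := E 0 4
  have e45 := E 4 5
  have e14 := E 1 4
  have e24 := E 2 4
  have e34 := E 3 4
  have e05 := E 0 5
  simp only [hd, hskew 0 1, hskew 0 2, hskew 0 3, hskew 0 4, hskew 0 5, hskew 1 2, hskew 1 3,
    hskew 1 4, hskew 1 5, hskew 2 3, hskew 2 4, hskew 2 5, hskew 3 4, hskew 3 5, hskew 4 5,
    mul_zero, zero_mul, add_zero, zero_add, neg_mul_neg, if_pos, Fin.reduceEq, if_false] at *
  simp only [sols, t2, t3, t4, t5, List.mem_flatMap, List.mem_filter, List.mem_map,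
    List.mem_product, mem_vals, and_self, true_and, Bool.and_eq_true, beq_iff_eq, Prod.exists]
  refine ⟨_, _, _, _, _, ?_, _, _, _, _, ?_, _, _, _, ?_, _, _, ?_, _, ?_, rfl⟩
  · exact e00
  · exact ⟨e11, e01⟩
  · exact ⟨⟨e22, e02⟩, e12⟩
  · exact ⟨⟨⟨e33, e03⟩, e13⟩, e23⟩
  · exact ⟨⟨⟨⟨⟨⟨⟨e44, e55⟩, e04⟩, e45⟩, e14⟩, e24⟩, e34⟩, e05⟩

/-- The number of vectors of length one in dimension eight. -/
theorem card_unit_eight : (Finset.univ.filter fun x : (Fin 4 → ZMod 3) × (Fin 4 → ZMod 3) =>
    (∑ i, x.1 i * x.1 i) + ∑ i, x.2 i * x.2 i = 1).card = 2160 := by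
  decide +kernel

end Cfsg.Agent.H97.Fischer.Skew
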