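import Cfsg.Agent.H97.Fischer.Three
import Cfsg.Agent.H97.Fischer.Skew

/-!
The projective reflection group in dimension eight with an orthonormal basis: few involutions move a
member to a given one, products determine pairs, and the commutator subgroup is `PΩ⁺(8, 3)`.
-/

set_option autoImplicit false
set_option linter.unusedSectionVars false

namespace Cfsg.Agent.H97.Fischer

open Cfsg QuadraticMap Module
open Cfsg.Agent.Orthogonal (Nondeg O rO rO_app toO polar_self' exists_perp_pair_value)
open H76.LocallyS3 (nb cj cj_cj cj_injective commute_cj_iff)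
open H80.TTQuad (Cls cj_one cj_inv_cj cj_cj_inv cj_eq_of_commute commute_of_cj_eq nb_symm)
open H7Fischer (refl3)
open H97.Refl3 (RGrp PGrp toOrth toOrth_injective toOrth_rf rf pt pt_eq_iff exists_pt pt_mem
  commute_pt conj_rf mem_nb_pt)

universe v

theorem centralizer_commutator_eq_bot {M : Type v} [Group M] [Finite M] {C : Set M} (H : Cls C) :
    Subgroup.centralizer ((commutator M : Subgroup M) : Set M) = ⊥ := by
  set N := Subgroup.centralizer ((commutator M : Subgroup M) : Set M)
  have hN : N.Normal := by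
    refine ⟨fun x hx g => Subgroup.mem_centralizer_iff.2 fun z hz => ?_⟩
    have h1 := Subgroup.mem_centralizer_iff.1 hx _
      ((inferInstance : (commutator M).Normal).conj_mem z hz g⁻¹)
    rw [inv_inv] at h1
    calc z * (g * x * g⁻¹) = g * (g⁻¹ * z * g * x) * g⁻¹ := by group
      _ = g * (x * (g⁻¹ * z * g)) * g⁻¹ := by rw [h1]
      _ = _ := by group
  have hI : N ⊓ commutator M = ⊥ := by
    refine H.sol _ (Subgroup.normal_inf_normal _ _) ?_
    exact Group.isSolvable_of_comm fun a b => Subtype.ext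
      (Subgroup.mem_centralizer_iff.1 b.2.1 _ a.2.2)
  rw [eq_bot_iff, ← H.center_eq_bot]
  intro x hx
  refine Subgroup.mem_center_iff.2 fun g => ?_
  have h2 : g * x * g⁻¹ * x⁻¹ ∈ N ⊓ commutator M :=
    ⟨N.mul_mem (hN.conj_mem x hx g) (N.inv_mem hx),
      Subgroup.commutator_mem_commutator (Subgroup.mem_top g) (Subgroup.mem_top x)⟩
  rw [hI, Subgroup.mem_bot] at h2
  exact mul_inv_eq_iff_eq_mul.1 (mul_inv_eq_one.1 h2)

/-- The fifteen entries of a skew matrix off the first two rows. -/
def upper (A : Fin 8 → Fin 8 → ZMod 3) : Skew.Key :=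
  ((A 2 3, A 2 4, A 2 5, A 2 6, A 2 7), (A 3 4, A 3 5, A 3 6, A 3 7), (A 4 5, A 4 6, A 4 7),
    (A 5 6, A 5 7), A 6 7)

theorem upper_ext {A B : Fin 8 → Fin 8 → ZMod 3} (hA : ∀ i k, A k i = -A i k)
    (hB : ∀ i k, B k i = -B i k) (h0 : A 0 = B 0) (h1 : A 1 = B 1) (h : upper A = upper B) :
    A = B := by
  have hd : ∀ t : ZMod 3, t = -t → t = 0 := by decide
  simp only [upper, Prod.mk.injEq] at h
  obtain ⟨⟨a1, a2, a3, a4, a5⟩, ⟨b1, b2, b3, b4⟩, ⟨c1, c2, c3⟩, ⟨d1, d2⟩, e1⟩ := h
  have main : ∀ i k : Fin 8, i < k → A i k = B i k := by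
    intro i k hik
    fin_cases i <;> fin_cases k <;> first
      | exact absurd hik (by decide)
      | exact congrFun h0 _
      | exact congrFun h1 _
      | assumption
  funext i k
  rcases lt_trichotomy i k with hik | rfl | hik
  · exact main i k hik
  · rw [hd _ (hA i i), hd _ (hB i i)]
  · rw [hA k i, hB k i, main k i hik]

variable {Q : QuadraticForm (ZMod 3) (Fin 8 → ZMod 3)} {c : ZMod 3}
  {u : Fin 8 → Fin 8 → ZMod 3}

section Facts

variable (hQ : Nondeg Q) (hc : c ≠ 0) (hu : OrthFam Q c u)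
include hQ hc hu

theorem pairUnique_eight : PairUnique (refl3 Q c) := by
  intro p hp q hq r hr s hs he
  obtain ⟨a, ha, rfl⟩ := exists_pt hp
  obtain ⟨b, hb, rfl⟩ := exists_pt hq.1
  obtain ⟨w, hw, rfl⟩ := exists_pt hr
  obtain ⟨z, hz, rfl⟩ := exists_pt hs.1
  have hab := (mem_nb_pt hQ hc (by norm_num) ha hb).1 hq
  have hwz := (mem_nb_pt hQ hc (by norm_num) hw hz).1 hs
  have hcen : (rf ha * rf hb)⁻¹ * (rf hw * rf hz) ∈ Subgroup.center (RGrp Q c) :=
    QuotientGroup.eq.1 he
  obtain ⟨t, ht, htx⟩ := H80.TTFischer.scalar_of_center hQ hc (by norm_num) hcen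
  have key : ∀ x, lmap Q c (rf hw * rf hz) x = t • lmap Q c (rf ha * rf hb) x := by
    intro x
    have e : rf hw * rf hz = rf ha * rf hb * ((rf ha * rf hb)⁻¹ * (rf hw * rf hz)) :=
      (mul_inv_cancel_left _ _).symm
    rw [e, lmap_mul (rf ha * rf hb), Module.End.mul_apply,
      show lmap Q c ((rf ha * rf hb)⁻¹ * (rf hw * rf hz)) x = t • x from htx x, map_smul]
  have hform : ∀ {a b : Fin 8 → ZMod 3} (ha : Q a = c) (hb : Q b = c) (x : Fin 8 → ZMod 3),
      polar Q a b = 0 → lmap Q c (rf ha * rf hb) x =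
        x - (c⁻¹ * polar Q b x) • b - (c⁻¹ * polar Q a x) • a := by
    intro a b ha hb x hab
    rw [lmap_mul, Module.End.mul_apply, lmap_rf, lmap_rf, polar_sub_right, polar_smul_right,
      smul_eq_mul, hab, mul_zero, sub_zero, ha, hb]
  have hspan : ∀ {a b x : Fin 8 → ZMod 3} (k l : ZMod 3),
      x - k • b - l • a = -x → x ∈ Submodule.span (ZMod 3) ({a, b} : Set (Fin 8 → ZMod 3)) := by
    intro a b x k l h
    rw [Submodule.mem_span_pair]
    refine ⟨2 * l, 2 * k, ?_⟩
    have h3 : (3 : ZMod 3) • x = 0 := by rw [show (3 : ZMod 3) = 0 from rfl, zero_smul]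
    have h2 : k • b + l • a = (2 : ZMod 3) • x := by
      rw [two_smul]
      linear_combination (norm := module) -h
    rw [mul_smul, mul_smul, ← smul_add, add_comm, h2, smul_smul,
      show (2 : ZMod 3) * 2 = 1 from rfl, one_smul]
  rcases ht with rfl | rfl
  · -- equal lifts
    have h1 := key w
    rw [one_smul, hform hw hz w hwz, hform ha hb w hab] at h1
    have hww : w - (c⁻¹ * polar Q z w) • z - (c⁻¹ * polar Q w w) • w = -w := by
      rw [polar_comm (⇑Q) z w, hwz, mul_zero, zero_smul, sub_zero, polar_self', hw, mul_left_comm,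
        inv_mul_cancel₀ hc, mul_one, two_smul]
      abel
    rw [hww] at h1
    obtain ⟨k, l, hkl⟩ := Submodule.mem_span_pair.1 (hspan _ _ h1.symm)
    have hq : (k * k + l * l) * c = c := by
      conv_rhs => rw [← hw, ← hkl]
      rw [Orthogonal.map_add_polar, Orthogonal.qmap_smul, Orthogonal.qmap_smul, ha, hb,
        polar_smul_left, polar_smul_right, hab, smul_zero, smul_zero]
      ring
    have hq' : k * k + l * l = 1 := mul_right_cancel₀ hc (by rw [hq, one_mul])
    rcases (show ∀ k l : ZMod 3, k * k + l * l = 1 →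
        (l = 0 ∧ (k = 1 ∨ k = -1)) ∨ (k = 0 ∧ (l = 1 ∨ l = -1)) by decide) k l hq' with
      ⟨rfl, rfl | rfl⟩ | ⟨rfl, rfl | rfl⟩
    all_goals simp only [zero_smul, add_zero, zero_add, one_smul, neg_smul] at hkl
    · exact Or.inl ((pt_eq_iff hQ hc (by norm_num) ha hw).2 (Or.inl hkl.symm)).symm
    · exact Or.inl ((pt_eq_iff hQ hc (by norm_num) ha hw).2 (Or.inr hkl.symm)).symm
    · exact Or.inr ((pt_eq_iff hQ hc (by norm_num) hb hw).2 (Or.inl hkl.symm)).symm
    · exact Or.inr ((pt_eq_iff hQ hc (by norm_num) hb hw).2 (Or.inr hkl.symm)).symm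
  · -- opposite lifts: three perpendicular vectors in a plane
    exfalso
    have hin : ∀ x, polar Q a x = 0 → polar Q b x = 0 →
        x ∈ Submodule.span (ZMod 3) ({w, z} : Set (Fin 8 → ZMod 3)) := by
      intro x hax hbx
      have h1 := key x
      rw [hform hw hz x hwz, hform ha hb x hab, hax, hbx, mul_zero, zero_smul, zero_smul, sub_zero,
        sub_zero, neg_one_smul] at h1
      exact hspan _ _ h1
    set W := Submodule.span (ZMod 3) ({a, b} : Set (Fin 8 → ZMod 3))
    have hle : Orthogonal.perp Q W ≤ Submodule.span (ZMod 3) ({w, z} : Set (Fin 8 → ZMod 3)) := by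
      intro x hx
      have h1 := (Orthogonal.mem_perp_span_pair Q).1 hx
      exact hin x h1.1 h1.2
    classical
    have h3 := Submodule.finrank_mono hle
    have hW : Module.finrank (ZMod 3) W ≤ 2 := by
      refine (finrank_span_le_card (R := ZMod 3) ({a, b} : Set (Fin 8 → ZMod 3))).trans ?_
      rw [Set.toFinset_insert, Set.toFinset_singleton]
      exact Finset.card_le_two
    have hwz2 : Module.finrank (ZMod 3) (Submodule.span (ZMod 3) ({w, z} : Set (Fin 8 → ZMod 3))) ≤ 2 := by
      refine (finrank_span_le_card (R := ZMod 3) ({w, z} : Set (Fin 8 → ZMod 3))).trans ?_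
      rw [Set.toFinset_insert, Set.toFinset_singleton]
      exact Finset.card_le_two
    have h4 := hQ.finrank_add_perp W
    rw [Module.finrank_fin_fun] at h4
    omega

theorem card_members_eight : 1080 ≤ (refl3 Q c).ncard := by
  classical
  obtain ⟨E, -, hQE, -⟩ := hu.equiv_diag hc (by simp)
  obtain ⟨S, hSdef⟩ : ∃ S : Finset ((Fin 4 → ZMod 3) × (Fin 4 → ZMod 3)),
      S = Finset.univ.filter fun x : (Fin 4 → ZMod 3) × (Fin 4 → ZMod 3) =>
        (∑ i, x.1 i * x.1 i) + ∑ i, x.2 i * x.2 i = 1 := ⟨_, rfl⟩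
  have hS : ∀ x ∈ S, Q (E (Fin.append x.1 x.2)) = c := by
    intro x hx
    rw [hSdef, Finset.mem_filter] at hx
    have h := hx.2
    rw [hQE, diag8_apply, Fin.sum_univ_add (a := 4) (b := 4)]
    simp only [Fin.append_left, Fin.append_right]
    rw [h, mul_one]
  let f : (Fin 4 → ZMod 3) × (Fin 4 → ZMod 3) → PGrp Q c := fun x =>
    if h : Q (E (Fin.append x.1 x.2)) = c then pt h else 1
  have hfin : (refl3 Q c).Finite := Set.toFinite _
  have h1 : S.card ≤ 2 * hfin.toFinset.card := by
    refine Finset.card_le_mul_card_image_of_maps_to (f := f) (fun x hx => ?_) 2 fun p hp => ?_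
    · rw [Set.Finite.mem_toFinset]
      simp only [f, dif_pos (hS x hx)]
      exact pt_mem _
    · obtain ⟨v, hv, rfl⟩ := exists_pt (hfin.mem_toFinset.1 hp)
      refine le_trans (Finset.card_le_card_of_injOn (fun x => E (Fin.append x.1 x.2))
        (t := {v, -v}) (fun x hx => ?_) ?_) Finset.card_le_two
      · obtain ⟨hx1, hx2⟩ := Finset.mem_filter.1 hx
        simp only [f, dif_pos (hS x hx1)] at hx2
        simp only [Finset.coe_insert, Finset.coe_singleton, Set.mem_insert_iff,
          Set.mem_singleton_iff]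
        rcases (pt_eq_iff hQ hc (by norm_num) hv (hS x hx1)).1 hx2.symm with h | h
        · exact Or.inl h
        · exact Or.inr h
      · intro x _ y _ e
        have e' := E.injective e
        refine Prod.ext (funext fun i => ?_) (funext fun i => ?_)
        · have h := congrFun e' (Fin.castAdd 4 i)
          rwa [Fin.append_left, Fin.append_left] at h
        · have h := congrFun e' (Fin.natAdd 4 i)
          rwa [Fin.append_right, Fin.append_right] at h
  rw [hSdef, Skew.card_unit_eight] at h1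
  rw [Set.ncard_eq_toFinset_card _ hfin]
  omega

theorem fewMoves_eight : FewMoves (refl3 Q c) := by
  classical
  obtain ⟨E, hE, hQE, -⟩ := hu.equiv_diag hc (by simp)
  have hnb : pt (hu.1 1) ∈ nb (refl3 Q c) (pt (hu.1 0)) :=
    (mem_nb_pt hQ hc (by norm_num) _ _).2 (hu.2 0 1 (by decide))
  refine ⟨_, pt_mem (hu.1 0), _, hnb, ?_⟩
  set X : Set (PGrp Q c) := {x | Moves (refl3 Q c) x ∧ cj x (pt (hu.1 0)) = pt (hu.1 1)}
  let lift : PGrp Q c → Module.End (ZMod 3) (Fin 8 → ZMod 3) := fun x => lmap Q c x.out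
  let sg : PGrp Q c → ZMod 3 := fun x => (2 * c)⁻¹ * polar Q (lift x (u 0)) (u 1)
  let M : PGrp Q c → Fin 8 → Fin 8 → ZMod 3 := fun x i k =>
    sg x * ((2 * c)⁻¹ * polar Q (lift x (u i)) (u k))
  have h2c : (2 * c : ZMod 3) ≠ 0 := mul_ne_zero two_ne_three hc
  have hsp : ∀ x ∈ X, ∃ s : ZMod 3, (s = 1 ∨ s = -1) ∧ lift x (u 0) = s • u 1 ∧ sg x = s := by
    intro x hx
    obtain ⟨hv', e⟩ := conj_rf hQ hc x.out (hu.1 0)
    have e2 : cj x (pt (hu.1 0)) = pt hv' := by
      conv_lhs => rw [← QuotientGroup.out_eq' x]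
      rw [cj, pt, pt, ← QuotientGroup.mk_inv, ← QuotientGroup.mk_mul, ← QuotientGroup.mk_mul, e]
    have h3 := (pt_eq_iff hQ hc (by norm_num) (hu.1 1) hv').1 (hx.2.symm.trans e2)
    obtain ⟨s, hs, hsv⟩ : ∃ s : ZMod 3, (s = 1 ∨ s = -1) ∧ lift x (u 0) = s • u 1 := by
      rcases h3 with h | h
      · exact ⟨1, Or.inl rfl, by rw [one_smul]; exact h⟩
      · exact ⟨-1, Or.inr rfl, by rw [neg_one_smul]; exact h⟩
    refine ⟨s, hs, hsv, ?_⟩
    simp only [sg]
    rw [hsv, polar_smul_left, smul_eq_mul, polar_self', hu.1 1, mul_left_comm,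
      inv_mul_cancel₀ h2c, mul_one]
  have hexp : ∀ w, w = ∑ k, ((2 * c)⁻¹ * polar Q w (u k)) • u k := by
    intro w
    obtain ⟨a, rfl⟩ := E.surjective w
    have hEa : E a = ∑ k, a k • u k := by
      conv_lhs => rw [← Finset.univ_sum_single a]
      rw [map_sum]
      refine Finset.sum_congr rfl fun k _ => ?_
      rw [show Pi.single k (a k) = a k • Pi.single k (1 : ZMod 3) by
        rw [← Pi.single_smul', smul_eq_mul, mul_one], map_smul, hE]
    conv_lhs => rw [hEa]
    refine Finset.sum_congr rfl fun k _ => ?_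
    congr 1
    rw [hEa, hu.polar_combo a k, mul_left_comm, inv_mul_cancel₀ h2c, mul_one]
  have hss : ∀ {s : ZMod 3}, (s = 1 ∨ s = -1) → s * s = 1 := by rintro _ (rfl | rfl) <;> decide
  have hinj : Set.InjOn M X := by
    intro x hx y hy hxy
    obtain ⟨s, hs, -, hsx⟩ := hsp x hx
    obtain ⟨t, ht, -, hty⟩ := hsp y hy
    have h4 : ∀ i, lift x (u i) = (s * t) • lift y (u i) := by
      intro i
      rw [hexp (lift x (u i)), hexp (lift y (u i)), Finset.smul_sum]
      refine Finset.sum_congr rfl fun k _ => ?_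
      have h5 := congrFun (congrFun hxy i) k
      simp only [M, hsx, hty] at h5
      rw [smul_smul]
      congr 1
      calc (2 * c)⁻¹ * polar Q (lift x (u i)) (u k)
          = s * (s * ((2 * c)⁻¹ * polar Q (lift x (u i)) (u k))) := by
            rw [← mul_assoc, hss hs, one_mul]
        _ = _ := by rw [h5, ← mul_assoc]
    have h6 : ∀ z, lift x z = (s * t) • lift y z := fun z => by
      rw [hexp z, map_sum, map_sum, Finset.smul_sum]
      refine Finset.sum_congr rfl fun k _ => ?_
      rw [map_smul, map_smul, h4, smul_comm]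
    rw [← QuotientGroup.out_eq' x, ← QuotientGroup.out_eq' y]
    refine (QuotientGroup.eq.2 (mem_center_of_scalar (s := s * t) fun z => ?_)).symm
    rw [lmap_mul, Module.End.mul_apply]
    show lmap Q c y.out⁻¹ (lift x z) = _
    rw [h6, map_smul]
    congr 1
    rw [show lift y z = lmap Q c y.out z from rfl, ← Module.End.mul_apply, ← lmap_mul,
      inv_mul_cancel, lmap_one, Module.End.one_apply]
  let key : PGrp Q c → Skew.Key := fun x => upper (M x)
  have hfacts : ∀ x ∈ X, (∀ i k, M x k i = -M x i k) ∧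
      (∀ i k, ∑ r, M x i r * M x k r = if i = k then 1 else 0) ∧
      (∀ k, M x 0 k = if k = 1 then 1 else 0) ∧ ∀ k, M x 1 k = if k = 0 then -1 else 0 := by
    intro x hx
    obtain ⟨s, hs, hs0, hsx⟩ := hsp x hx
    obtain ⟨hJ, -⟩ := moves_lift hQ hc (by norm_num)
      (y := x.out) (by rw [QuotientGroup.out_eq']; exact hx.1)
    have hJJ : ∀ z, lift x (lift x z) = -z := fun z => LinearMap.congr_fun hJ z
    have hpol : ∀ z z', polar Q (lift x z) z' = -polar Q z (lift x z') := by
      intro z z'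
      have h := lmap_polar x.out (lift x z) z'
      rw [show lmap Q c x.out (lift x z) = -z from hJJ z, polar_neg_left] at h
      exact h.symm
    have hM0 : ∀ k, M x 0 k = if k = 1 then 1 else 0 := by
      intro k
      simp only [M, hsx, hs0, polar_smul_left, smul_eq_mul]
      rcases eq_or_ne k 1 with rfl | hk
      · rw [if_pos rfl, polar_self', hu.1 1, mul_left_comm (2 * c)⁻¹, inv_mul_cancel₀ h2c, mul_one,
          hss hs]
      · rw [if_neg hk, hu.2 1 k hk.symm, mul_zero, mul_zero, mul_zero]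
    have hskew : ∀ i k, M x k i = -M x i k := by
      intro i k
      simp only [M]
      rw [hpol, polar_comm]
      ring
    refine ⟨hskew, fun i k => ?_, hM0, fun k => ?_⟩
    · have h1 : polar Q (lift x (u i)) (lift x (u k)) = polar Q (u i) (u k) := lmap_polar _ _ _
      rw [hexp (lift x (u i)), ← Orthogonal.polarBilin_apply', map_sum, LinearMap.sum_apply] at h1
      simp only [map_smul, LinearMap.smul_apply, Orthogonal.polarBilin_apply', smul_eq_mul] at h1
      have h7 : ∑ r, M x i r * M x k r = (2 * c)⁻¹ * polar Q (u i) (u k) := by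
        rw [← h1, Finset.mul_sum]
        refine Finset.sum_congr rfl fun r _ => ?_
        simp only [M, hsx]
        rw [polar_comm (⇑Q) (u r) (lift x (u k))]
        linear_combination ((2 * c)⁻¹ * polar Q (lift x (u i)) (u r) * ((2 * c)⁻¹ *
          polar Q (lift x (u k)) (u r))) * hss hs
      rw [h7]
      rcases eq_or_ne i k with rfl | hik
      · rw [if_pos rfl, polar_self', hu.1 i, inv_mul_cancel₀ h2c]
      · rw [if_neg hik, hu.2 i k hik, mul_zero]
    · have h1 : lift x (u 1) = -(s • u 0) := by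
        have h := hJJ (u 0)
        rw [hs0, map_smul] at h
        calc lift x (u 1) = (s * s) • lift x (u 1) := by rw [hss hs, one_smul]
          _ = s • (s • lift x (u 1)) := (smul_smul _ _ _).symm
          _ = _ := by rw [h, smul_neg]
      simp only [M, hsx, h1, polar_neg_left, polar_smul_left, smul_eq_mul]
      rcases eq_or_ne k 0 with rfl | hk
      · rw [if_pos rfl, polar_self', hu.1 0, mul_neg, mul_neg, mul_left_comm (2 * c)⁻¹,
          inv_mul_cancel₀ h2c, mul_one, hss hs]
      · rw [if_neg hk, hu.2 0 k hk.symm]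
        ring
  have hkey : Set.InjOn key X := by
    intro x hx y hy h
    obtain ⟨sx, -, rx, rx1⟩ := hfacts x hx
    obtain ⟨sy, -, ry, ry1⟩ := hfacts y hy
    refine hinj hx hy (upper_ext sx sy (funext fun k => ?_) (funext fun k => ?_) h)
    · rw [rx, ry]
    · rw [rx1, ry1]
  have hle : X.ncard ≤ 1080 := by
    have hmaps : key '' X ⊆ (Skew.sols.toFinset : Set Skew.Key) := by
      rintro _ ⟨x, hx, rfl⟩
      obtain ⟨sx, ox, rx, rx1⟩ := hfacts x hx
      rw [Finset.mem_coe, List.mem_toFinset]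
      refine Skew.mem_sols (M := fun p q : Fin 6 => M x (Fin.natAdd 2 p) (Fin.natAdd 2 q))
        (fun p q => sx _ _) fun p q => ?_
      have h := ox (Fin.natAdd 2 p) (Fin.natAdd 2 q)
      rw [Fin.sum_univ_add (a := 2) (b := 6)] at h
      have e0 : ∀ p : Fin 6, ∀ r : Fin 2, M x (Fin.natAdd 2 p) (Fin.castAdd 6 r) = 0 := by
        intro p r
        rw [sx]
        fin_cases r
        · show -M x 0 _ = 0
          rw [rx, if_neg, neg_zero]
          exact fun e => absurd (congrArg Fin.val e) (by simp; omega)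
        · show -M x 1 _ = 0
          rw [rx1, if_neg, neg_zero]
          exact fun e => absurd (congrArg Fin.val e) (by simp)
      simp only [e0, mul_zero, Finset.sum_const_zero, zero_add] at h
      rw [h]
      exact if_congr (Fin.natAdd_inj 2).symm.symm rfl rfl
    have h1 := Set.ncard_le_ncard hmaps (Finset.finite_toSet _)
    rw [Set.InjOn.ncard_image hkey, Set.ncard_coe_finset] at h1
    exact h1.trans ((List.toFinset_card_le _).trans Skew.length_sols.le)
  have := card_members_eight hQ hc hu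
  omega

theorem commutator_equiv_eight :
    Nonempty (↥(commutator (PGrp Q c)) ≃* Cfsg.POmega (ZMod 3) (Cfsg.quadFormPlus 4 (ZMod 3))) := by
  have H := H97.Refl3.cls_refl3 hQ hc (n := 8) (by norm_num)
  obtain ⟨E, -, -, ⟨eD⟩⟩ := hu.equiv_diag hc (by simp)
  let w : Fin 8 → (Fin 4 ⊕ Fin 4 → ZMod 3) :=
    ![Sum.elim ![1, 0, 0, 0] ![1, 0, 0, 0], Sum.elim ![0, 1, 0, 0] ![0, 1, 0, 0],
      Sum.elim ![0, 0, 1, 0] ![0, 0, 1, 0], Sum.elim ![0, 0, 0, 1] ![0, 0, 0, 1],
      Sum.elim ![1, 1, 0, 0] ![-1, -1, 0, 0], Sum.elim ![1, -1, 0, 0] ![-1, 1, 0, 0],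
      Sum.elim ![0, 0, 1, 1] ![0, 0, -1, -1], Sum.elim ![0, 0, 1, -1] ![0, 0, -1, 1]]
  have hw : OrthFam (Orthogonal.formPlus (ZMod 3) 4) 1 w := by
    have h1 : ∀ i, Cfsg.quadFormPlus 4 (ZMod 3) (w i) = 1 := by decide +kernel
    have h2 : ∀ i k, i ≠ k → Cfsg.quadFormPlus 4 (ZMod 3) (w i + w k) = 2 := by decide +kernel
    refine ⟨h1, fun i k hik => ?_⟩
    show Cfsg.quadFormPlus 4 (ZMod 3) (w i + w k) - Cfsg.quadFormPlus 4 (ZMod 3) (w i) -
      Cfsg.quadFormPlus 4 (ZMod 3) (w k) = 0
    rw [h1, h1, h2 i k hik]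
    rfl
  obtain ⟨E', -, -, ⟨eP⟩⟩ := hw.equiv_diag one_ne_zero (by rw [Orthogonal.finrank_formPlus])
  have h2 : (2 : ZMod 3) ≠ 0 := two_ne_three
  have hn' : 5 ≤ Module.finrank (ZMod 3) (Fin 8 → ZMod 3) := by simp
  have hr := H80.TTFischer.range_toOrth hQ hc (n := 8) (by norm_num)
  have hmap := Orthogonal.map_commutator_classGroup hQ h2 hc hn' _ hr
  set R := RGrp Q c
  set C := commutator R
  let π := QuotientGroup.mk' (Subgroup.center R)
  have hmapC : C.map π = commutator (PGrp Q c) := by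
    show ((⁅(⊤ : Subgroup R), (⊤ : Subgroup R)⁆ : Subgroup R)).map π = ⁅(⊤ : Subgroup (PGrp Q c)), ⊤⁆
    rw [Subgroup.map_commutator,
      Subgroup.map_top_of_surjective _ (QuotientGroup.mk'_surjective _)]
  let f : ↥C →* ↥(commutator (PGrp Q c)) :=
    (π.comp C.subtype).codRestrict _ fun x => by rw [← hmapC]; exact ⟨x, x.2, rfl⟩
  have hfs : Function.Surjective f := fun y => by
    obtain ⟨x, hx, e⟩ : (y : PGrp Q c) ∈ C.map π := by rw [hmapC]; exact y.2
    exact ⟨⟨x, hx⟩, Subtype.ext e⟩
  have hker : f.ker = Subgroup.center ↥C := by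
    ext a
    rw [MonoidHom.mem_ker]
    constructor
    · intro h
      have h' : (a : R) ∈ Subgroup.center R :=
        (QuotientGroup.eq_one_iff _).1 (congrArg Subtype.val h)
      exact Subgroup.mem_center_iff.2 fun b => Subtype.ext (Subgroup.mem_center_iff.1 h' b)
    · intro h
      have h3 : (f a : PGrp Q c) ∈
          Subgroup.centralizer ((commutator (PGrp Q c) : Subgroup _) : Set (PGrp Q c)) := by
        refine Subgroup.mem_centralizer_iff.2 fun y hy => ?_
        obtain ⟨b, hb⟩ := hfs ⟨y, hy⟩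
        have := congrArg f (Subgroup.mem_center_iff.1 h b)
        rw [map_mul, map_mul, hb] at this
        exact congrArg Subtype.val this
      rw [centralizer_commutator_eq_bot H, Subgroup.mem_bot] at h3
      exact Subtype.ext h3
  let eO : O Q ≃* O (Orthogonal.formPlus (ZMod 3) 4) := eD.trans eP.symm
  have hmapO : (commutator (O Q)).map eO.toMonoidHom =
      commutator (O (Orthogonal.formPlus (ZMod 3) 4)) := by
    rw [commutator_def, Subgroup.map_commutator, Subgroup.map_top_of_surjective _ eO.surjective,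
      ← commutator_def]
  obtain ⟨e1⟩ := H80.TTFischer.center_quot_congr
    ((((C.equivMapOfInjective (toOrth Q c) toOrth_injective).trans
      (MulEquiv.subgroupCongr hmap)).trans ((eO.subgroupMap _).trans
      (MulEquiv.subgroupCongr hmapO))).trans
      (Orthogonal.omegaEquiv (Orthogonal.formPlus (ZMod 3) 4)).symm)
  exact ⟨((QuotientGroup.quotientKerEquivOfSurjective f hfs).symm.trans
    (QuotientGroup.quotientMulEquivOfEq hker)).trans e1⟩

end Facts

end Cfsg.Agent.H97.Fischer
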