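import Cfsg.Agent.H97.Fischer.Two
import Cfsg.Agent.H97.Fischer.Alt

/-!
Hyperbolic forms over the field with two elements with a twist have dimension eight, and there few
involutions move a member to a given one.
-/

set_option autoImplicit false
set_option linter.unusedSectionVars false
set_option linter.unusedSimpArgs false

namespace Cfsg.Agent.H97.Fischer

open Cfsg QuadraticMap Module
open Cfsg.Agent.Orthogonal (Nondeg formPlus formPlus_nondeg formPlus_frame stdE stdF TotSing)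
open H76.LocallyS3 (nb cj cj_cj cj_injective commute_cj_iff)
open H80.TTQuad (Cls cj_one cj_inv_cj cj_cj_inv cj_eq_of_commute commute_of_cj_eq nb_symm)
open H7Fischer (orthTv)

universe u

/-- Commuting elements of order three, none in the group of the earlier ones. -/
theorem three_pow_le_card {G : Type u} [Group G] [Finite G] (t : ℕ → G) (k : ℕ)
    (hcube : ∀ i < k, t i * t i * t i = 1)
    (hcomm : ∀ i < k, ∀ j < k, t i * t j = t j * t i)
    (hind : ∀ i < k, t i ∉ Subgroup.closure (t '' Set.Iio i)) :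
    3 ^ k ≤ Nat.card ↥(Subgroup.closure (t '' Set.Iio k)) ∧
      (∀ g ∈ Subgroup.closure (t '' Set.Iio k), ∀ h ∈ Subgroup.closure (t '' Set.Iio k),
        g * h = h * g) ∧
      ∀ g ∈ Subgroup.closure (t '' Set.Iio k), g * g * g = 1 := by
  set S := fun j => Subgroup.closure (t '' Set.Iio j)
  have hc : ∀ g ∈ S k, ∀ h ∈ S k, g * h = h * g := by
    intro g hg h hh
    have h1 : S k ≤ Subgroup.centralizer (t '' Set.Iio k) := by
      rw [Subgroup.closure_le]
      rintro _ ⟨i, hi, rfl⟩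
      refine Subgroup.mem_centralizer_iff.2 ?_
      rintro _ ⟨j, hj, rfl⟩
      exact hcomm j hj i hi
    have h2 : S k ≤ Subgroup.centralizer (S k : Set G) := by
      rw [Subgroup.closure_le]
      rintro y hy
      exact Subgroup.mem_centralizer_iff.2 fun z hz =>
        ((Subgroup.mem_centralizer_iff.1 (h1 hz)) y hy).symm
    exact ((Subgroup.mem_centralizer_iff.1 (h2 hg)) h hh).symm
  have hcu : ∀ g ∈ S k, g * g * g = 1 := by
    intro g hg
    induction hg using Subgroup.closure_induction with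
    | mem x hx => obtain ⟨i, hi, rfl⟩ := hx; exact hcube i hi
    | one => simp
    | mul p q hp hq ihp ihq =>
      calc p * q * (p * q) * (p * q) = p * (q * p) * q * p * q := by group
        _ = p * (p * q) * q * p * q := by rw [hc q hq p hp]
        _ = p * p * (q * q * p) * q := by group
        _ = p * p * (p * (q * q)) * q := by rw [hc (q * q) (mul_mem hq hq) p hp]
        _ = (p * p * p) * (q * q * q) := by group
        _ = 1 := by rw [ihp, ihq, one_mul]
    | inv p _ ihp =>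
      calc p⁻¹ * p⁻¹ * p⁻¹ = (p * p * p)⁻¹ := by group
        _ = 1 := by rw [ihp, inv_one]
  refine ⟨?_, hc, hcu⟩
  have hle : ∀ j ≤ k, S j ≤ S k := fun j hj =>
    Subgroup.closure_mono (Set.image_mono (Set.Iio_subset_Iio hj))
  have hp : ∀ j ≤ k, IsPGroup 3 ↥(S j) := fun j hj g => ⟨1, Subtype.ext (by
    show (g : G) ^ (3 ^ 1) = 1
    rw [pow_one, pow_succ, pow_two]
    exact hcu g (hle j hj g.2))⟩
  have key : ∀ j ≤ k, 3 ^ j ≤ Nat.card ↥(S j) := by
    intro j
    induction j with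
    | zero => intro _; rw [pow_zero]; exact Nat.card_pos
    | succ j ih =>
      intro hj
      have : Fact (Nat.Prime 3) := ⟨Nat.prime_three⟩
      obtain ⟨a, ha⟩ := (hp j (by omega)).exists_card_eq
      obtain ⟨b, hb⟩ := (hp (j + 1) hj).exists_card_eq
      have hsub : S j ≤ S (j + 1) :=
        Subgroup.closure_mono (Set.image_mono (Set.Iio_subset_Iio (by omega)))
      have hlt : a < b := by
        by_contra hge
        have h1 : S j = S (j + 1) := Subgroup.eq_of_le_of_card_ge hsub (by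
          rw [ha, hb]
          exact Nat.pow_le_pow_right (by norm_num) (by omega))
        exact hind j (by omega) (show t j ∈ S j from
          h1 ▸ Subgroup.subset_closure ⟨j, Set.mem_Iio.2 (by omega), rfl⟩)
      have h2 := ih (by omega)
      rw [ha] at h2
      rw [hb, pow_succ]
      calc 3 ^ j * 3 ≤ 3 ^ a * 3 := Nat.mul_le_mul_right 3 h2
        _ = 3 ^ (a + 1) := (pow_succ 3 a).symm
        _ ≤ 3 ^ b := Nat.pow_le_pow_right (by norm_num) hlt
  exact key k le_rfl

section Plus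

variable {m : ℕ}

/-- The pairs of vectors spanning perpendicular anisotropic planes away from the first two hyperbolic
planes. -/
def pu (hm : 2 ≤ m) (j : ℕ) : Fin m ⊕ Fin m → ZMod 2 :=
  if h : 2 * (j / 2) + 3 < m then
    stdE (ZMod 2) m ⟨2 * (j / 2) + 2, by omega⟩ + stdF (ZMod 2) m ⟨2 * (j / 2) + 2, by omega⟩ +
      (if j % 2 = 0 then 0 else stdE (ZMod 2) m ⟨2 * (j / 2) + 3, h⟩)
  else stdE (ZMod 2) m ⟨0, by omega⟩

/-- The partners. -/
def pv (hm : 2 ≤ m) (j : ℕ) : Fin m ⊕ Fin m → ZMod 2 :=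
  if h : 2 * (j / 2) + 3 < m then
    stdE (ZMod 2) m ⟨2 * (j / 2) + 2, by omega⟩ +
      (if j % 2 = 0 then stdE (ZMod 2) m ⟨2 * (j / 2) + 3, h⟩
        else stdF (ZMod 2) m ⟨2 * (j / 2) + 2, by omega⟩) +
      stdF (ZMod 2) m ⟨2 * (j / 2) + 3, h⟩
  else stdE (ZMod 2) m ⟨0, by omega⟩

/-- The first of the commuting pair. -/
def pa (hm : 2 ≤ m) : Fin m ⊕ Fin m → ZMod 2 :=
  stdE (ZMod 2) m ⟨0, by omega⟩ + stdF (ZMod 2) m ⟨0, by omega⟩

/-- The second of the commuting pair. -/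
def pb (hm : 2 ≤ m) : Fin m ⊕ Fin m → ZMod 2 :=
  stdE (ZMod 2) m ⟨1, by omega⟩ + stdF (ZMod 2) m ⟨1, by omega⟩

theorem plane_facts (hm : 2 ≤ m) {i : ℕ} (hi : 2 * (i / 2) + 3 < m) :
    formPlus (ZMod 2) m (pu hm i) = 1 ∧ formPlus (ZMod 2) m (pv hm i) = 1 ∧
      polar (formPlus (ZMod 2) m) (pu hm i) (pv hm i) = 1 ∧
      (∀ w ∈ [pa hm, pb hm], polar (formPlus (ZMod 2) m) w (pu hm i) = 0 ∧
        polar (formPlus (ZMod 2) m) w (pv hm i) = 0) ∧
      ∀ j, j ≠ i → 2 * (j / 2) + 3 < m →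
        ∀ w ∈ [pu hm j, pv hm j], polar (formPlus (ZMod 2) m) w (pu hm i) = 0 ∧
          polar (formPlus (ZMod 2) m) w (pv hm i) = 0 := by
  have hf := formPlus_frame (ZMod 2) m
  have e11 : (1 : ZMod 2) + 1 = 0 := rfl
  have hp : i % 2 = 0 ∨ i % 2 = 1 := by omega
  refine ⟨?_, ?_, ?_, fun w hw => ?_, fun j hji hj w hw => ?_⟩
  · rcases hp with h | h <;>
      simp [pu, dif_pos hi, h, Orthogonal.map_add_polar, hf.qe, hf.qf, hf.ef, hf.ee, hf.fe,
        Fin.ext_iff, e11]
  · rcases hp with h | h <;>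
      simp [pv, dif_pos hi, h, Orthogonal.map_add_polar, hf.qe, hf.qf, hf.ef, hf.ee, hf.ff, hf.fe,
        Fin.ext_iff, e11]
  · rcases hp with h | h <;>
      simp [pu, pv, dif_pos hi, h, hf.ef, hf.ee, hf.ff, hf.fe, Fin.ext_iff, e11]
  · simp only [List.mem_cons, List.not_mem_nil, or_false] at hw
    rcases hp with h | h <;> rcases hw with rfl | rfl <;>
      simp [pu, pv, pa, pb, dif_pos hi, h, hf.ef, hf.ee, hf.ff, hf.fe, Fin.ext_iff]
  · simp only [List.mem_cons, List.not_mem_nil, or_false] at hw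
    by_cases hd : j / 2 = i / 2
    · rcases hp with h | h
      · have hj2 : j % 2 = 1 := by omega
        rcases hw with rfl | rfl <;>
          simp [pu, pv, dif_pos hi, dif_pos hj, h, hj2, hd, hf.ef, hf.ee, hf.ff, hf.fe,
            Fin.ext_iff, e11, z2_two]
      · have hj2 : j % 2 = 0 := by omega
        rcases hw with rfl | rfl <;>
          simp [pu, pv, dif_pos hi, dif_pos hj, h, hj2, hd, hf.ef, hf.ee, hf.ff, hf.fe,
            Fin.ext_iff, e11, z2_two]
    · have n1 : 2 * (j / 2) + 2 ≠ 2 * (i / 2) + 3 := by omega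
      have n2 : 2 * (j / 2) + 3 ≠ 2 * (i / 2) + 2 := by omega
      have n3 : 2 * (j / 2) ≠ 2 * (i / 2) + 1 := by omega
      have n4 : 2 * (j / 2) + 1 ≠ 2 * (i / 2) := by omega
      have hq : j % 2 = 0 ∨ j % 2 = 1 := by omega
      rcases hp with h | h <;> rcases hq with h' | h' <;> rcases hw with rfl | rfl <;>
        simp [pu, pv, dif_pos hi, dif_pos hj, h, h', hf.ef, hf.ee, hf.ff, hf.fe, Fin.ext_iff, hd,
          n1, n2, n3, n4, n1.symm, n2.symm, n3.symm, n4.symm, Ne.symm hd]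

set_option maxHeartbeats 1000000 in
theorem twist_plus_eq_four (hm : 3 ≤ m) (H : Cls (orthTv (⇑(formPlus (ZMod 2) m))))
    (hT : Twist (orthTv (⇑(formPlus (ZMod 2) m)))) : m = 4 := by
  set Q := formPlus (ZMod 2) m
  have hQ : Nondeg Q := formPlus_nondeg (ZMod 2) m
  have hι : Fintype.card (Fin m ⊕ Fin m) = 2 * m := by simp; omega
  obtain ⟨x₀, hx₀⟩ := hT.exists_moves H
  obtain ⟨r, hr⟩ := even_half hQ (by omega) hx₀ hι
  by_contra hne
  have hm2 : 2 ≤ m := by omega
  set k := m - 2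
  have hidx : ∀ j < k, 2 * (j / 2) + 3 < m := fun j hj => by omega
  have hf := formPlus_frame (ZMod 2) m
  have hQa : Q (pa hm2) = 1 := by
    simp [Q, pa, Orthogonal.map_add_polar, hf.qe, hf.qf, hf.ef]
  have hQb : Q (pb hm2) = 1 := by
    simp [Q, pb, Orthogonal.map_add_polar, hf.qe, hf.qf, hf.ef]
  have hne' : pb hm2 ≠ pa hm2 := by
    intro e
    have := congrArg (polar Q (stdE (ZMod 2) m ⟨0, by omega⟩)) e
    simp [Q, pa, pb, hf.ef, hf.ee, Fin.ext_iff] at this
  have hab : tv Q (pb hm2) ∈ nb (orthTv (⇑Q)) (tv Q (pa hm2)) :=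
    (mem_nb_tv hQ hQa hQb).2 ⟨hne', by simp [Q, pa, pb, hf.ef, hf.ee, hf.ff, hf.fe, Fin.ext_iff]⟩
  let t : ℕ → ↥(commutator (Cfsg.isometryGroup (ZMod 2) (⇑Q))) := fun j =>
    if h : j < k then ⟨tv Q (pu hm2 j) * tv Q (pv hm2 j), mul_mem_commutator H
      (tv_mem hQ (plane_facts hm2 (hidx j h)).1) (tv_mem hQ (plane_facts hm2 (hidx j h)).2.1)⟩
    else 1
  have ht : ∀ j, j < k → (t j : Cfsg.isometryGroup (ZMod 2) (⇑Q)) =
      tv Q (pu hm2 j) * tv Q (pv hm2 j) := fun j h => by simp only [t, dif_pos h]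
  obtain ⟨φ, hφ, hmv, -⟩ := hT
  set ab : ↥(commutator (Cfsg.isometryGroup (ZMod 2) (⇑Q))) :=
    ⟨tv Q (pa hm2) * tv Q (pb hm2), mul_mem_commutator H (tv_mem hQ hQa) (tv_mem hQ hQb)⟩
  have hcube : ∀ j < k, t j * t j * t j = 1 := by
    intro j hj
    obtain ⟨q1, q2, q3, -⟩ := plane_facts hm2 (hidx j hj)
    refine Subtype.ext ?_
    have h3 := H.cube (tv_mem hQ q1) (tv_mem hQ q2)
      (fun h => one_ne_zero (q3.symm.trans ((commute_tv hQ q1 q2).1 h)))
    rw [pow_succ, pow_two] at h3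
    rw [Subgroup.coe_mul, Subgroup.coe_mul, ht j hj]
    exact h3
  have hcomm : ∀ i < k, ∀ j < k, t i * t j = t j * t i := by
    intro i hi j hj
    rcases eq_or_ne i j with rfl | hij
    · rfl
    obtain ⟨q1, q2, -, -, q5⟩ := plane_facts hm2 (hidx i hi)
    obtain ⟨r1, r2, -⟩ := plane_facts hm2 (hidx j hj)
    have c1 := q5 j hij.symm (hidx j hj) _ (List.mem_cons_self ..)
    have c2 := q5 j hij.symm (hidx j hj) _ (List.mem_cons_of_mem _ (List.mem_cons_self ..))
    refine Subtype.ext ?_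
    rw [Subgroup.coe_mul, Subgroup.coe_mul, ht i hi, ht j hj]
    exact ((((commute_tv hQ r1 q1).2 c1.1).mul_right ((commute_tv hQ r1 q2).2 c1.2)).mul_left
      (((commute_tv hQ r2 q1).2 c2.1).mul_right ((commute_tv hQ r2 q2).2 c2.2))).symm.eq
  have hab_t : ∀ j < k, Commute ab (t j) := by
    intro j hj
    obtain ⟨q1, q2, -, q4, -⟩ := plane_facts hm2 (hidx j hj)
    have c1 := q4 _ (List.mem_cons_self ..)
    have c2 := q4 _ (List.mem_cons_of_mem _ (List.mem_cons_self ..))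
    refine Subtype.ext ?_
    rw [Subgroup.coe_mul, Subgroup.coe_mul, ht j hj]
    exact ((((commute_tv hQ hQa q1).2 c1.1).mul_right ((commute_tv hQ hQa q2).2 c1.2)).mul_left
      (((commute_tv hQ hQb q1).2 c2.1).mul_right ((commute_tv hQ hQb q2).2 c2.2))).eq
  have hind : ∀ i < k, t i ∉ Subgroup.closure (t '' Set.Iio i) := by
    intro i hi hmem
    obtain ⟨q1, q2, q3, -, q5⟩ := plane_facts hm2 (hidx i hi)
    have hfix : ∀ g ∈ Subgroup.closure (t '' Set.Iio i),
        lm Q (g : Cfsg.isometryGroup (ZMod 2) (⇑Q)) (pu hm2 i) = pu hm2 i := by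
      intro g hg
      induction hg using Subgroup.closure_induction with
      | mem y hy =>
        obtain ⟨j, hj, rfl⟩ := hy
        have hj' : j < k := lt_trans (Set.mem_Iio.1 hj) hi
        obtain ⟨r1, r2, -⟩ := plane_facts hm2 (hidx j hj')
        have hji : j ≠ i := (Set.mem_Iio.1 hj).ne
        have c1 := (q5 j hji (hidx j hj') _ (List.mem_cons_self ..)).1
        have c2 := (q5 j hji (hidx j hj') _
          (List.mem_cons_of_mem _ (List.mem_cons_self ..))).1
        rw [ht j hj', lm_mul, lm_tv r2, c2, zero_smul, add_zero, lm_tv r1, c1, zero_smul, add_zero]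
      | one => rw [Subgroup.coe_one, lm_one]
      | mul p q _ _ ihp ihq => rw [Subgroup.coe_mul, lm_mul, ihq, ihp]
      | inv p _ ihp =>
        conv_lhs => rw [← ihp]
        rw [Subgroup.coe_inv, ← lm_mul, inv_mul_cancel, lm_one]
    have h1 := hfix _ hmem
    rw [ht i hi, lm_mul, lm_tv q2, polar_comm (⇑Q) (pv hm2 i) (pu hm2 i), q3, one_smul, lm_tv q1,
      polar_add_right, Orthogonal.polar_self', q1, z2_two, zero_mul, zero_add, q3, one_smul] at h1
    rw [add_assoc, add_eq_left] at h1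
    have : pv hm2 i = pu hm2 i := by
      rwa [add_eq_zero_iff_eq_neg, z2_neg] at h1
    rw [this, Orthogonal.polar_self', q1, z2_two, zero_mul] at q3
    exact zero_ne_one q3
  obtain ⟨hcard, hcA, hcu⟩ := three_pow_le_card t k hcube hcomm hind
  set S := Subgroup.closure (t '' Set.Iio k)
  set x := φ ab
  have hx : Moves (orthTv (⇑Q)) x := hmv _ (tv_mem hQ hQa) _ hab _
  obtain ⟨hgg, hell, -, hTS, hdim⟩ := moves_lm hQ (by omega) hx
  set W := LinearMap.ker (lm Q x + 1)
  have hWmem : ∀ v, v ∈ W ↔ lm Q x v = v := fun v => by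
    rw [LinearMap.mem_ker]
    show lm Q x v + v = 0 ↔ _
    rw [add_eq_zero_iff_eq_neg, z2_neg]
  have hcx : ∀ g ∈ S, Commute ab g := by
    intro g hg
    induction hg using Subgroup.closure_induction with
    | mem y hy => obtain ⟨j, hj, rfl⟩ := hy; exact hab_t j (Set.mem_Iio.1 hj)
    | one => exact Commute.one_right _
    | mul p q _ _ ihp ihq => exact ihp.mul_right ihq
    | inv p _ ihp => exact ihp.inv_right
  have hstab : ∀ g ∈ S, ∀ v ∈ W, lm Q (φ g) v ∈ W := fun g hg v hv => by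
    rw [hWmem, ← lm_mul, show x * φ g = φ g * x from ((hcx g hg).map φ).eq, lm_mul, (hWmem v).1 hv]
  let f : ↥S → (↥W ≃ₗ[ZMod 2] ↥W) := fun g =>
    LinearEquiv.ofLinearMap ((lm Q (φ g)).restrict (hstab g g.2))
      ((lm Q (φ ((g⁻¹ : ↥S) : ↥(commutator _)))).restrict (hstab _ (g⁻¹).2))
      (LinearMap.ext fun v => Subtype.ext (by
        show lm Q (φ g) (lm Q (φ ((g⁻¹ : ↥S) : ↥(commutator _))) v) = v
        rw [← lm_mul, ← map_mul, ← Subgroup.coe_mul, mul_inv_cancel, Subgroup.coe_one, map_one,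
          lm_one]))
      (LinearMap.ext fun v => Subtype.ext (by
        show lm Q (φ ((g⁻¹ : ↥S) : ↥(commutator _))) (lm Q (φ g) v) = v
        rw [← lm_mul, ← map_mul, ← Subgroup.coe_mul, inv_mul_cancel, Subgroup.coe_one, map_one,
          lm_one]))
  let ρ : ↥S →* (↥W ≃ₗ[ZMod 2] ↥W) :=
    { toFun := f
      map_one' := LinearEquiv.ext fun v => Subtype.ext (by
        show lm Q (φ ((1 : ↥S) : ↥(commutator _))) v = v
        rw [Subgroup.coe_one, map_one, lm_one])
      map_mul' := fun g h => LinearEquiv.ext fun v => Subtype.ext (by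
        show lm Q (φ ((g * h : ↥S) : ↥(commutator _))) v = lm Q (φ g) (lm Q (φ h) v)
        rw [Subgroup.coe_mul, map_mul, lm_mul]) }
  have hρ : ∀ (g : ↥S) (v : ↥W), ((ρ g v : ↥W) : Fin m ⊕ Fin m → ZMod 2) = lm Q (φ g) v :=
    fun g v => rfl
  have hperp : Orthogonal.perp Q W = W :=
    hTS.perp_eq_self hQ (by rw [Module.finrank_fintype_fun_eq_card, hι]) (by omega)
  have hinj : Function.Injective ρ := by
    rw [injective_iff_map_eq_one]
    intro g hg
    have hW1 : ∀ w ∈ W, lm Q (φ g) w = w := fun w hw =>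
      (hρ g ⟨w, hw⟩).symm.trans (by rw [hg]; rfl)
    have h2 : φ (g : ↥(commutator _)) * φ g = 1 := lm_injective fun v => by
      have hd : lm Q (φ g) v + v ∈ W := by
        rw [← hperp]
        intro w hw
        rw [polar_add_right]
        conv_lhs => arg 1; rw [← hW1 w hw]
        rw [lm_polar, z2_self]
      have h3 := hW1 _ hd
      rw [map_add] at h3
      rw [lm_mul, lm_one]
      calc lm Q (φ g) (lm Q (φ g) v)
          = lm Q (φ g) (lm Q (φ g) v) + lm Q (φ g) v + lm Q (φ g) v := by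
            rw [add_assoc, z2_self, add_zero]
        _ = lm Q (φ g) v + v + lm Q (φ g) v := by rw [h3]
        _ = v + (lm Q (φ g) v + lm Q (φ g) v) := by abel
        _ = v := by rw [z2_self, add_zero]
    have h3 : φ (g : ↥(commutator _)) = 1 := by
      have := congrArg φ (hcu g g.2)
      rwa [map_mul, map_mul, map_one, h2, one_mul] at this
    exact Subtype.ext (hφ (by rw [h3, Subgroup.coe_one, map_one]))
  have hWf : finrank (ZMod 2) ↥W = m := by omega
  have h1 := card_sq_le m (W := ↥W) ρ.range hWf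
    (by
      rintro _ ⟨p, rfl⟩ _ ⟨q, rfl⟩
      rw [← map_mul, ← map_mul]
      exact congrArg ρ (Subtype.ext (hcA p p.2 q q.2)))
    (by
      rintro _ ⟨p, rfl⟩
      rw [← map_mul, ← map_mul, show p * p * p = 1 from Subtype.ext (hcu p p.2), map_one])
  have h2 : Nat.card ↥ρ.range = Nat.card ↥S :=
    (Nat.card_congr (MonoidHom.ofInjective hinj).toEquiv).symm
  rw [h2] at h1
  have h3 : (3 : ℕ) ^ (2 * k) ≤ 3 ^ m := by
    rw [mul_comm 2 k, pow_mul]
    exact (Nat.pow_le_pow_left hcard 2).trans h1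
  have h4 := (Nat.pow_le_pow_iff_right (by norm_num : 1 < 3)).1 h3
  omega

theorem pairUnique_plus {ι : Type} [Fintype ι] [DecidableEq ι]
    {Q : QuadraticForm (ZMod 2) (ι → ZMod 2)} (hQ : Nondeg Q) : PairUnique (orthTv (⇑Q)) := by
  intro p hp q hq r hr s hs he
  obtain ⟨a, ha, rfl⟩ := exists_tv hQ hp
  obtain ⟨b, hb, rfl⟩ := exists_tv hQ hq.1
  obtain ⟨w, hw, rfl⟩ := exists_tv hQ hr
  obtain ⟨z, hz, rfl⟩ := exists_tv hQ hs.1
  obtain ⟨-, hab⟩ := (mem_nb_tv hQ ha hb).1 hq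
  obtain ⟨hzw, hwz⟩ := (mem_nb_tv hQ hw hz).1 hs
  have hform : ∀ {a b : ι → ZMod 2} (ha : Q a = 1) (hb : Q b = 1), polar Q a b = 0 → ∀ v,
      lm Q (tv Q a * tv Q b) v = v + polar Q b v • b + polar Q a v • a := by
    intro a b ha hb hab v
    rw [lm_mul, lm_tv hb, lm_tv ha, polar_add_right, polar_smul_right, hab, smul_zero, add_zero]
  have hwn : w ∉ Submodule.span (ZMod 2) {z} := by
    intro hmem
    obtain ⟨k, hk⟩ := Submodule.mem_span_singleton.1 hmem
    rcases H7Fischer.z2_cases k with e | e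
    · rw [← hk, e, zero_smul, QuadraticMap.map_zero] at hw
      exact zero_ne_one hw
    · rw [e, one_smul] at hk
      exact hzw hk
  obtain ⟨l, hl1, hl2⟩ := Submodule.exists_dual_map_eq_bot_of_notMem hwn inferInstance
  obtain ⟨v, hv⟩ := hQ.exists_repr l
  have hlz : l z = 0 := by
    have : l z ∈ (Submodule.span (ZMod 2) {z}).map l :=
      ⟨z, Submodule.mem_span_singleton_self z, rfl⟩
    rwa [hl2, Submodule.mem_bot] at this
  have hvz : polar Q z v = 0 := by rw [polar_comm, hv, hlz]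
  have hvw : polar Q w v = 1 := by rw [polar_comm, hv]; exact H44.f2_ne hl1
  have e : lm Q (tv Q a * tv Q b) v = lm Q (tv Q w * tv Q z) v := by rw [he]
  rw [hform ha hb hab, hform hw hz hwz, hvz, hvw, zero_smul, one_smul, add_zero, add_assoc,
    add_right_inj] at e
  rcases H7Fischer.z2_cases (polar Q b v) with k | k <;>
    rcases H7Fischer.z2_cases (polar Q a v) with k' | k' <;>
    simp only [k, k', zero_smul, one_smul, zero_add, add_zero] at e
  · rw [← e, QuadraticMap.map_zero] at hw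
    exact absurd hw zero_ne_one
  · exact Or.inl (by rw [e])
  · exact Or.inr (by rw [e])
  · rw [← e, Orthogonal.map_add_polar, hb, ha, polar_comm, hab] at hw
    exact absurd hw (by decide)

/-- The standard coordinates by hyperbolic planes. -/
def sI : Fin 8 → Fin 4 ⊕ Fin 4 :=
  ![.inl 0, .inr 0, .inl 1, .inr 1, .inl 2, .inr 2, .inl 3, .inr 3]

/-- The partners. -/
def sJ : Fin 8 → Fin 4 ⊕ Fin 4 :=
  ![.inr 0, .inl 0, .inr 1, .inl 1, .inr 2, .inl 2, .inr 3, .inl 3]

theorem key_ext {A B : Fin 8 → Fin 8 → ZMod 2} (hA : ∀ s t, A t s = A s t)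
    (hA0 : ∀ s, A s s = 0) (hB : ∀ s t, B t s = B s t) (hB0 : ∀ s, B s s = 0)
    (hcA : ∀ s, A 0 s + A 1 s = if s.val < 4 then 1 else 0)
    (hcB : ∀ s, B 0 s + B 1 s = if s.val < 4 then 1 else 0)
    (h : Alt.key A = Alt.key B) : A = B := by
  have hsub : ∀ x y z : ZMod 2, x + y = z → y = x + z := by decide
  simp only [Alt.key, Prod.mk.injEq] at h
  obtain ⟨⟨a2, a3, a4, a5, a6, a7⟩, ⟨b3, b4, b5, b6, b7⟩, ⟨c4, c5, c6, c7⟩, ⟨d5, d6, d7⟩,
    ⟨e6, e7⟩, f7⟩ := h
  have a1 : A 0 1 = B 0 1 := by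
    have h1 := hcA 1
    have h2 := hcB 1
    rw [hA0 1, add_zero] at h1
    rw [hB0 1, add_zero] at h2
    rw [h1, h2]
  have row0 : ∀ k : Fin 8, A 0 k = B 0 k := by
    intro k
    fin_cases k
    exacts [(hA0 0).trans (hB0 0).symm, a1, a2, a3, a4, a5, a6, a7]
  have row1 : ∀ k : Fin 8, A 1 k = B 1 k := fun k => by
    rw [hsub _ _ _ (hcA k), hsub _ _ _ (hcB k), row0 k]
  have main : ∀ i k : Fin 8, i < k → A i k = B i k := by
    intro i k hik
    fin_cases i <;> fin_cases k <;> first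
      | exact absurd hik (by decide)
      | exact row0 _
      | exact row1 _
      | assumption
  funext i k
  rcases lt_trichotomy i k with hik | rfl | hik
  · exact main i k hik
  · rw [hA0, hB0]
  · rw [hA k i, hB k i, main k i hik]

theorem fewMoves_plus : FewMoves (orthTv (⇑(formPlus (ZMod 2) 4))) := by
  classical
  set Q := formPlus (ZMod 2) 4
  have hQ : Nondeg Q := formPlus_nondeg (ZMod 2) 4
  let a : Fin 4 ⊕ Fin 4 → ZMod 2 := Sum.elim ![1, 0, 0, 0] ![1, 0, 0, 0]
  let b : Fin 4 ⊕ Fin 4 → ZMod 2 := Sum.elim ![0, 1, 0, 0] ![0, 1, 0, 0]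
  have hQa : Q a = 1 := by show Cfsg.quadFormPlus 4 (ZMod 2) a = 1; decide
  have hQb : Q b = 1 := by show Cfsg.quadFormPlus 4 (ZMod 2) b = 1; decide
  have hnb : tv Q b ∈ nb (orthTv (⇑Q)) (tv Q a) := (mem_nb_tv hQ hQa hQb).2
    ⟨by decide, by rw [Orthogonal.polar_formPlus]; decide⟩
  refine ⟨_, tv_mem hQ hQa, _, hnb, ?_⟩
  set X := {x | Moves (orthTv (⇑Q)) x ∧ cj x (tv Q a) = tv Q b}
  let σ : Fin 8 → (Fin 4 ⊕ Fin 4 → ZMod 2) := fun t => Pi.single (sI t) 1
  let M : Cfsg.isometryGroup (ZMod 2) (⇑Q) → Fin 8 → Fin 8 → ZMod 2 := fun x t u =>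
    (lm Q x (σ t) + σ t) (sJ u)
  have hcoord : ∀ (u : Fin 8) (w : Fin 4 ⊕ Fin 4 → ZMod 2), polar Q (σ u) w = w (sJ u) := by
    intro u w
    rw [Orthogonal.polar_formPlus]
    fin_cases u <;> simp [σ, sI, sJ, Fin.sum_univ_four]
  have hqd : ∀ w : Fin 4 ⊕ Fin 4 → ZMod 2, Q w =
      w (sJ 0) * w (sJ 1) + w (sJ 2) * w (sJ 3) + w (sJ 4) * w (sJ 5) + w (sJ 6) * w (sJ 7) := by
    intro w
    show Cfsg.quadFormPlus 4 (ZMod 2) w = _
    simp [Cfsg.quadFormPlus, Fin.sum_univ_four, sJ]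
    ring
  have hpd : ∀ v w : Fin 4 ⊕ Fin 4 → ZMod 2, polar Q v w =
      v (sJ 0) * w (sJ 1) + v (sJ 1) * w (sJ 0) + v (sJ 2) * w (sJ 3) + v (sJ 3) * w (sJ 2) +
        v (sJ 4) * w (sJ 5) + v (sJ 5) * w (sJ 4) + v (sJ 6) * w (sJ 7) + v (sJ 7) * w (sJ 6) := by
    intro v w
    rw [Orthogonal.polar_formPlus]
    simp [Fin.sum_univ_four, sJ]
    ring
  have hfacts : ∀ x ∈ X, (∀ s, M x s s = 0) ∧ (∀ s t, M x t s = M x s t) ∧
      (∀ s, M x 0 s + M x 1 s = if s.val < 4 then 1 else 0) ∧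
      (∀ t, M x t 0 * M x t 1 + M x t 2 * M x t 3 + M x t 4 * M x t 5 + M x t 6 * M x t 7 = 0) ∧
      (∀ t u, M x t 0 * M x u 1 + M x t 1 * M x u 0 + M x t 2 * M x u 3 + M x t 3 * M x u 2 +
        M x t 4 * M x u 5 + M x t 5 * M x u 4 + M x t 6 * M x u 7 + M x t 7 * M x u 6 = 0) := by
    intro x hx
    obtain ⟨hgg, hell, -, hTS, -⟩ := moves_lm hQ (by simp) hx.1
    have hW : ∀ v, lm Q x v + v ∈ LinearMap.ker (lm Q x + 1) := fun v => by
      rw [LinearMap.mem_ker]
      simp only [LinearMap.add_apply, Module.End.one_apply, map_add, hgg]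
      rw [add_comm v, z2_self]
    have hM : ∀ t u, M x t u = polar Q (σ u) (lm Q x (σ t) + σ t) := fun t u => by rw [hcoord]
    refine ⟨fun s => ?_, fun s t => ?_, fun s => ?_, fun t => ?_, fun t u => ?_⟩
    · rw [hM, polar_add_right, hell, Orthogonal.polar_self', z2_two, zero_mul, add_zero]
    · rw [hM, hM, polar_add_right, polar_add_right, polar_comm (⇑Q) (σ t) (σ s),
        ← lm_polar x (σ s) (lm Q x (σ t)), hgg, polar_comm (⇑Q) (lm Q x (σ s)) (σ t)]
    · have hga : lm Q x a = b :=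
        tv_inj hQ (by rw [lm_form]; exact hQa) hQb ((cj_tv x a).symm.trans hx.2)
      have hsum : σ 0 + σ 1 = a := by
        funext i; revert i; decide
      show (lm Q x (σ 0) + σ 0) (sJ s) + (lm Q x (σ 1) + σ 1) (sJ s) = _
      rw [← Pi.add_apply]
      have e : lm Q x (σ 0) + σ 0 + (lm Q x (σ 1) + σ 1) = b + a := by
        rw [← hga, ← hsum, map_add]; abel
      rw [e]
      revert s; decide
    · exact (hqd (lm Q x (σ t) + σ t)).symm.trans (hTS _ (hW (σ t)))
    · exact (hpd (lm Q x (σ t) + σ t) (lm Q x (σ u) + σ u)).symm.trans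
        (hTS.polar_eq (hW (σ t)) (hW (σ u)))
  have hinj : Set.InjOn (fun x => Alt.key (M x)) X := by
    intro x hx y hy h
    obtain ⟨xd, xs, xc, -, -⟩ := hfacts x hx
    obtain ⟨yd, ys, yc, -, -⟩ := hfacts y hy
    have hM : M x = M y := key_ext xs xd ys yd xc yc h
    refine lm_injective fun v => ?_
    have hb : ∀ t, lm Q x (σ t) = lm Q y (σ t) := by
      intro t
      have h1 : lm Q x (σ t) + σ t = lm Q y (σ t) + σ t := by
        funext i
        obtain ⟨u, rfl⟩ : ∃ u, sJ u = i := by revert i; decide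
        exact congrFun (congrFun hM t) u
      exact add_right_cancel h1
    conv_lhs => rw [← Finset.univ_sum_single v]
    conv_rhs => rw [← Finset.univ_sum_single v]
    rw [map_sum, map_sum]
    refine Finset.sum_congr rfl fun i _ => ?_
    obtain ⟨t, rfl⟩ : ∃ t, sI t = i := by revert i; decide
    rw [show Pi.single (sI t) (v (sI t)) = v (sI t) • σ t by
      simp only [σ]; rw [← Pi.single_smul', smul_eq_mul, mul_one], map_smul, map_smul, hb]
  have hle : X.ncard ≤ 140 := by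
    have hmaps : (fun x => Alt.key (M x)) '' X ⊆ (Alt.sols.toFinset : Set Alt.Key) := by
      rintro _ ⟨x, hx, rfl⟩
      obtain ⟨xd, xs, xc, xq, xp⟩ := hfacts x hx
      rw [Finset.mem_coe, List.mem_toFinset]
      exact Alt.mem_sols xd xs xc xq xp
    have h1 := Set.ncard_le_ncard hmaps (Finset.finite_toSet _)
    rw [Set.InjOn.ncard_image hinj, Set.ncard_coe_finset] at h1
    exact h1.trans ((List.toFinset_card_le _).trans Alt.length_sols.le)
  have hC : 120 ≤ (orthTv (⇑Q)).ncard := by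
    have h1 : (Finset.univ.filter fun v : Fin 4 ⊕ Fin 4 → ZMod 2 =>
        Cfsg.quadFormPlus 4 (ZMod 2) v = 1).card = 120 := by decide +kernel
    rw [← h1, ← Set.ncard_coe_finset]
    refine Set.ncard_le_ncard_of_injOn (tv Q) (fun v hv => ?_) (fun v hv w hw e => ?_) (Set.toFinite _)
    · exact tv_mem hQ (Finset.mem_filter.1 (Finset.mem_coe.1 hv)).2
    · exact tv_inj hQ (Finset.mem_filter.1 (Finset.mem_coe.1 hv)).2
        (Finset.mem_filter.1 (Finset.mem_coe.1 hw)).2 e
  omega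

end Plus

end Cfsg.Agent.H97.Fischer
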