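import Cfsg.Agent.H97.Fischer.Eight
import Cfsg.Agent.H97.Fischer.Plus
import Cfsg.Prelude.Def_Local

/-!
A disconnected commuting graph: the quotient by the generalized Fitting subgroup is the symmetric
group of degree 3 and that subgroup is `Ω⁺(8, 2)` or `PΩ⁺(8, 3)`, given the classification of
connected classes with central local cores.
-/

set_option autoImplicit false
set_option linter.unusedSectionVars false

namespace Cfsg.Agent.H97.Fischer

open Cfsg
open H76.LocallyS3 (nb cj cj_cj cj_injective commute_cj_iff)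
open H80.TTQuad (Cls)
open H80.TTFischer (MainClass)
open H7Fischer (Conn IsoTo IsSym IsOrthTwo IsOrthThree IsFischerType orthTv refl3 Central)

universe u

/-- The commutator subgroups of isomorphic groups are isomorphic. -/
theorem commutator_congr {A B : Type*} [Group A] [Group B] (e : A ≃* B) :
    Nonempty (↥(commutator A) ≃* ↥(commutator B)) := by
  have h : (commutator A).map e.toMonoidHom = commutator B := by
    rw [commutator_def, Subgroup.map_commutator, Subgroup.map_top_of_surjective _ e.surjective,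
      ← commutator_def]
  exact ⟨(e.subgroupMap _).trans (MulEquiv.subgroupCongr h)⟩

/-- The classes with a twist. -/
theorem twist_model {M : Type u} [Group M] [Finite M] {C : Set M} (H : Cls C) (hconn : Conn C)
    (hM : MainClass C) (hperf : ⁅commutator M, commutator M⁆ = commutator M) (hT : Twist C) :
    PairUnique C ∧ FewMoves C ∧
      (Nonempty (↥(commutator M) ≃* Cfsg.Omega (ZMod 2) (Cfsg.quadFormPlus 4 (ZMod 2))) ∨
        Nonempty (↥(commutator M) ≃* Cfsg.POmega (ZMod 3) (Cfsg.quadFormPlus 4 (ZMod 3)))) := by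
  obtain ⟨x, hx⟩ := H.nonempty
  by_cases h3 : Cfsg.pCore 3 ↥(Subgroup.closure {y : M | y ∈ C ∧ y ≠ x ∧ Commute x y}) ≤
      Subgroup.center ↥(Subgroup.closure {y : M | y ∈ C ∧ y ≠ x ∧ Commute x y})
  swap
  · obtain ⟨e⟩ := S1615.result H.sol hperf H.cl x hx fun h => h3 (le_trans (by
      refine Cores.le_oddCore ?_
      have : Fact (Nat.Prime 3) := ⟨Nat.prime_three⟩
      obtain ⟨k, hk⟩ := (Cores.pCore_isPGroup (p := 3) (G := ↥(Subgroup.closure
        {y : M | y ∈ C ∧ y ≠ x ∧ Commute x y}))).exists_card_eq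
      rw [hk]
      exact (by decide : Odd 3).pow) h)
    exact absurd hT (not_twist_sym H (isSym_of_five H e))
  by_cases h2 : Cfsg.pCore 2 ↥(Subgroup.closure {y : M | y ∈ C ∧ y ≠ x ∧ Commute x y}) ≤
      Subgroup.center ↥(Subgroup.closure {y : M | y ∈ C ∧ y ≠ x ∧ Commute x y})
  swap
  · exact absurd hT (not_twist_polar (H80.TTPolar.polar_of_twins H hx h2))
  have hC : Central C := H7Fischer.central_of_at H hx ⟨h2, h3⟩
  rcases hM H hC hconn with h | h | ⟨n, μ, c, hn, h⟩ | h
  · exact absurd hT (not_twist_sym H h)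
  · rcases h with ⟨m, hm, h⟩ | ⟨m, hm, h⟩
    · have hi : IsoTo C (orthTv (⇑(Orthogonal.formPlus (ZMod 2) m))) := h
      have H' := H7Fischer.cls_of_isoTo hi H
      obtain rfl := twist_plus_eq_four hm H' (hT.of_isoTo hi)
      obtain ⟨e, -⟩ := id hi
      exact ⟨(pairUnique_plus (Orthogonal.formPlus_nondeg (ZMod 2) 4)).of_isoTo hi,
        fewMoves_plus.of_isoTo hi, Or.inl (commutator_congr e)⟩
    · have hi : IsoTo C (orthTv (⇑(Orthogonal.formMinus (ZMod 2) m 1 1))) := h
      exact absurd (hT.of_isoTo hi)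
        (not_twist_minus hm (by decide) (H7Fischer.cls_of_isoTo hi H))
  · obtain ⟨Q, hQ, -, hc, hi⟩ := h
    have hQ' := Orthogonal.nondeg_of_polarBilin hQ
    obtain ⟨rfl, u, hu⟩ := twist_dim hQ' hc hn (hT.of_isoTo hi)
    obtain ⟨e8⟩ := commutator_equiv_eight hQ' hc hu
    obtain ⟨e, -⟩ := id hi
    obtain ⟨e'⟩ := commutator_congr e
    exact ⟨(pairUnique_eight hQ' hc hu).of_isoTo hi, (fewMoves_eight hQ' hc hu).of_isoTo hi,
      Or.inr ⟨e'.trans e8⟩⟩
  · exact absurd hT (not_twist_fischer H hconn h)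

/-- **Disconnected commuting graph.** -/
theorem disconnected (hMain : ∀ (M : Type u) [Group M] [Finite M] (C : Set M), MainClass C)
    {G : Type u} [Group G] [Finite G] {D : Set G} (hD : Cfsg.IsThreeTranspositionClass D)
    (hZ : Subgroup.center G = ⊥) (h2 : Cfsg.pCore 2 G = ⊥) (h3 : Cfsg.pCore 3 G = ⊥)
    (hdisc : ¬ (Cfsg.commutingGraph D).Connected) (F : Subgroup G) [F.Normal]
    (hF : F = Cfsg.generalizedFittingSubgroup G) :
    Nonempty (G ⧸ F ≃* Equiv.Perm (Fin 3)) ∧
      (Nonempty (F ≃* Cfsg.Omega (ZMod 2) (Cfsg.quadFormPlus 4 (ZMod 2))) ∨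
        Nonempty (F ≃* Cfsg.POmega (ZMod 3) (Cfsg.quadFormPlus 4 (ZMod 3)))) := by
  obtain ⟨d, hd, -⟩ := hD.2.1
  have hD2 : ∃ a ∈ D, ∃ b ∈ D, a ≠ b := by
    by_contra hall
    push Not at hall
    have hc : d ∈ Subgroup.center G := by
      have hle : (⊤ : Subgroup G) ≤ Subgroup.centralizer {d} := by
        rw [← hD.2.2, Subgroup.closure_le]
        intro y hy
        rw [SetLike.mem_coe, Subgroup.mem_centralizer_singleton_iff, hall y hy d hd]
      exact Subgroup.mem_center_iff.2 fun g =>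
        Subgroup.mem_centralizer_singleton_iff.1 (hle (Subgroup.mem_top g))
    rw [hZ, Subgroup.mem_bot] at hc
    exact H44.tt_ne_one hD.1 hd hc
  have H : Cls D := H7Fischer.cls_of_cores hD hD2 hZ (h2 ▸ bot_le) (h3 ▸ bot_le)
  obtain ⟨L, K⟩ := exists_core H
  have hFL : F = L := hF.trans K.eq_fitting
  obtain ⟨hU, hFew, hiso⟩ := twist_model (cls_component H hd) (conn_component hd)
    (hMain _ (cls D d)) (K.perfect_commutator_sub hd) (twist_component H hdisc hd)
  obtain ⟨b, hb, hbd, hall⟩ := three_blocks H hdisc hd hU hFew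
  have := K.normal
  obtain ⟨e⟩ := quotient_equiv H K hd hb hbd hall
  obtain ⟨eL⟩ := K.commutator_sub_equiv hd
  refine ⟨⟨(QuotientGroup.quotientMulEquivOfEq hFL).trans e⟩, ?_⟩
  rcases hiso with h | h
  · exact Or.inl (h.map fun ei => (MulEquiv.subgroupCongr hFL).trans (eL.symm.trans ei))
  · exact Or.inr (h.map fun ei => (MulEquiv.subgroupCongr hFL).trans (eL.symm.trans ei))

end Cfsg.Agent.H97.Fischer
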