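import Cfsg.Agent.H97.Fischer.Count
import Cfsg.Agent.H80.TTPolar.Lines
import Cfsg.Agent.H93.Count22
import Cfsg.Agent.H93.Count23G
import Cfsg.Agent.S5375
import Cfsg.Agent.S5361

/-!
Classes with no twist: symmetric groups, classes with thick lines, and types M(22), M(23), M(24).
-/

set_option autoImplicit false
set_option linter.unusedSectionVars false

namespace Cfsg.Agent.H97.Fischer

open Cfsg
open H76.LocallyS3 (nb cj cj_cj cj_injective commute_cj_iff)
open H80.TTQuad (Cls cj_one cj_inv_cj cj_cj_inv cj_eq_of_commute commute_of_cj_eq nb_symm)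
open H7Fischer (Conn)
open scoped commutatorElement

universe u

variable {M : Type u} [Group M] [Finite M] {C : Set M}

theorem mul_mem_commutator (H : Cls C) {p q : M} (hp : p ∈ C) (hq : q ∈ C) :
    p * q ∈ commutator M := by
  obtain ⟨g, rfl⟩ := H.exists_cj hp hq
  have := Subgroup.commutator_mem_commutator (Subgroup.mem_top p) (Subgroup.mem_top g)
  rw [commutatorElement_def, H.inv' hp] at this
  rw [cj, show p * (g * p * g⁻¹) = p * g * p * g⁻¹ by group]
  exact this

theorem Twist.exists_moves (hT : Twist C) (H : Cls C) : ∃ x : M, Moves C x := by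
  obtain ⟨φ, -, hm, -⟩ := hT
  obtain ⟨p, hp⟩ := H.nonempty
  obtain ⟨q, hq⟩ := H.nb_nonempty hp
  exact ⟨_, hm p hp q hq (mul_mem_commutator H hp hq.1)⟩

theorem Moves.not_commute {x c : M} (h : Moves C x) (hc : c ∈ C) : ¬ Commute x c := fun hx =>
  (h.2 c hc).2.1 (cj_eq_of_commute hx)

theorem Moves.invol {x : M} (h : Moves C x) (z : M) : cj x (cj x z) = z := by
  rw [cj_cj, h.1, cj_one]

/-- A symmetric group has no twist. -/
theorem not_twist_sym (H : Cls C) (h : H7Fischer.IsSym C) : ¬ Twist C := by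
  intro hT
  obtain ⟨x, hx⟩ := hT.exists_moves H
  obtain ⟨n, -, e, he⟩ := h
  have hsq : e x * e x = 1 := by rw [← map_mul, hx.1, map_one]
  obtain ⟨i, hi⟩ : ∃ i, e x i ≠ i := by
    by_contra hall
    push Not at hall
    obtain ⟨c, hc⟩ := H.nonempty
    refine hx.not_commute hc ?_
    have h1 : x = 1 := e.injective (by rw [map_one]; exact Equiv.ext hall)
    exact h1 ▸ Commute.one_left c
  have hii : e x (e x i) = i := by
    rw [← Equiv.Perm.mul_apply, hsq, Equiv.Perm.one_apply]
  obtain ⟨c, hc, hce⟩ : Equiv.swap i (e x i) ∈ e '' C := he ▸ ⟨i, e x i, Ne.symm hi, rfl⟩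
  refine hx.not_commute hc ((H7Fischer.commute_map_iff' e).1 ?_)
  rw [hce]
  refine Equiv.ext fun z => ?_
  rw [Equiv.Perm.mul_apply, Equiv.Perm.mul_apply]
  rcases eq_or_ne z i with rfl | h1
  · rw [Equiv.swap_apply_left, hii, Equiv.swap_apply_right]
  rcases eq_or_ne z (e x i) with rfl | h2
  · rw [Equiv.swap_apply_right, hii, Equiv.swap_apply_left]
  rw [Equiv.swap_apply_of_ne_of_ne h1 h2, Equiv.swap_apply_of_ne_of_ne
    (fun q => h2 (by rw [← q, ← Equiv.Perm.mul_apply, hsq, Equiv.Perm.one_apply]))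
    (fun q => h1 ((e x).injective q))]

theorem five_invol : ∀ σ : Equiv.Perm (Fin 5), σ * σ = 1 → σ ≠ 1 →
    Equiv.Perm.sign σ ≠ 1 → ∃ i j, i ≠ j ∧ σ = Equiv.swap i j := by
  decide +kernel

/-- A class generating the symmetric group of degree five is its class of transpositions. -/
theorem isSym_of_five (H : Cls C) (e : M ≃* Equiv.Perm (Fin 5)) : H7Fischer.IsSym C := by
  have hodd : ∀ c ∈ C, Equiv.Perm.sign (e c) ≠ 1 := by
    intro c hc h
    have hle : (⊤ : Subgroup M) ≤ (Equiv.Perm.sign.comp e.toMonoidHom).ker := by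
      rw [← H.cl.2.2, Subgroup.closure_le]
      intro d hd
      obtain ⟨g, rfl⟩ := H.exists_cj hc hd
      show Equiv.Perm.sign (e (g * c * g⁻¹)) = 1
      simp [h]
    have h1 : Equiv.Perm.sign (e (e.symm (Equiv.swap 0 1))) = 1 :=
      hle (Subgroup.mem_top (e.symm (Equiv.swap 0 1)))
    simp at h1
  refine ⟨5, le_rfl, e, Set.Subset.antisymm ?_ ?_⟩
  · rintro _ ⟨c, hc, rfl⟩
    exact five_invol _ (by rw [← map_mul, H.sq hc, map_one])
      (fun h => hodd c hc (by rw [h, map_one])) (hodd c hc)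
  · rintro σ ⟨i, j, hij, rfl⟩
    obtain ⟨c, hc⟩ := H.nonempty
    obtain ⟨k, l, hkl, hck⟩ := five_invol (e c) (by rw [← map_mul, H.sq hc, map_one])
      (fun h => hodd c hc (by rw [h, map_one])) (hodd c hc)
    obtain ⟨g, hg⟩ := isConj_iff.1 (Equiv.Perm.isConj_swap hkl hij)
    refine ⟨cj (e.symm g) c, H.mem_cj _ hc, ?_⟩
    rw [cj, map_mul, map_mul, map_inv, e.apply_symm_apply, hck, hg]

/-- Classes with thick lines have no twist: their maximal commuting sets have odd size. -/
theorem not_twist_polar (P : H80.TTPolar.Polar C) : ¬ Twist C := by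
  classical
  intro hT
  obtain ⟨x, hx⟩ := hT.exists_moves P.toCls
  let good : Finset M → Prop := fun K => (∀ u ∈ K, u ∈ C) ∧ (∀ u ∈ K, ∀ v ∈ K, Commute u v) ∧
    ∀ u ∈ K, cj x u ∈ K
  have : Fintype M := Fintype.ofFinite M
  obtain ⟨a, ha⟩ := P.toCls.nonempty
  have hb := hx.2 a ha
  have h0 : ({a, cj x a} : Finset M) ∈ Finset.univ.filter good := by
    refine Finset.mem_filter.2 ⟨Finset.mem_univ _, fun u hu => ?_, fun u hu v hv => ?_,
      fun u hu => ?_⟩
    · simp only [Finset.mem_insert, Finset.mem_singleton] at hu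
      rcases hu with rfl | rfl
      exacts [ha, hb.1]
    · simp only [Finset.mem_insert, Finset.mem_singleton] at hu hv
      rcases hu with rfl | rfl <;> rcases hv with rfl | rfl
      exacts [Commute.refl _, hb.2.2, hb.2.2.symm, Commute.refl _]
    · simp only [Finset.mem_insert, Finset.mem_singleton] at hu ⊢
      rcases hu with rfl | rfl
      exacts [Or.inr rfl, Or.inl (hx.invol a)]
  obtain ⟨K, hK, hmax⟩ := Finset.exists_max_image _ Finset.card ⟨_, h0⟩
  obtain ⟨-, hKC, hKc, hKx⟩ := Finset.mem_filter.1 hK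
  have hfull : ∀ c ∈ C, (∀ u ∈ K, Commute c u) → c ∈ K := by
    intro c hc hcu
    by_contra hcK
    have hc' := hx.2 c hc
    have hxu : ∀ u ∈ K, Commute (cj x c) u := fun u hu => by
      have := (commute_cj_iff (g := x)).2 (hcu _ (hKx u hu))
      rwa [hx.invol] at this
    have hgood : insert c (insert (cj x c) K) ∈ Finset.univ.filter good := by
      refine Finset.mem_filter.2 ⟨Finset.mem_univ _, fun u hu => ?_, fun u hu v hv => ?_,
        fun u hu => ?_⟩
      · simp only [Finset.mem_insert] at hu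
        rcases hu with rfl | rfl | hu
        exacts [hc, hc'.1, hKC u hu]
      · simp only [Finset.mem_insert] at hu hv
        rcases hu with rfl | rfl | hu <;> rcases hv with rfl | rfl | hv
        exacts [Commute.refl _, hc'.2.2, hcu _ hv, hc'.2.2.symm, Commute.refl _, hxu _ hv,
          (hcu _ hu).symm, (hxu _ hu).symm, hKc u hu v hv]
      · simp only [Finset.mem_insert] at hu ⊢
        rcases hu with rfl | rfl | hu
        exacts [Or.inr (Or.inl rfl), Or.inl (hx.invol c), Or.inr (Or.inr (hKx u hu))]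
    have h1 := hmax _ hgood
    have h2 : K.card < (insert c (insert (cj x c) K)).card :=
      Finset.card_lt_card (Finset.ssubset_iff_of_subset
        (fun u hu => Finset.mem_insert_of_mem (Finset.mem_insert_of_mem hu)) |>.2
        ⟨c, Finset.mem_insert_self _ _, hcK⟩)
    omega
  -- the size is even
  have heven : Even K.card := by
    have h := Finset.sum_involution (s := K) (f := fun _ : M => (1 : ZMod 2)) (fun u _ => cj x u)
      (fun _ _ => by decide) (fun u hu _ => (hx.2 u (hKC u hu)).2.1) hKx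
      (fun u _ => hx.invol u)
    rw [Finset.sum_const, nsmul_one] at h
    exact (ZMod.natCast_eq_zero_iff_even).1 h
  -- the size is odd
  obtain ⟨p, hp⟩ : K.Nonempty := Finset.card_pos.1
    (lt_of_lt_of_le (Finset.card_pos.2 ⟨a, Finset.mem_insert_self _ _⟩) (hmax _ h0))
  have hnb : ∀ u ∈ K.erase p, u ∈ nb C p := fun u hu =>
    ⟨hKC u (Finset.mem_of_mem_erase hu), Finset.ne_of_mem_erase hu,
      hKc p hp u (Finset.mem_of_mem_erase hu)⟩
  let f : M → Finset M := fun u => (Set.toFinite (H80.TTPolar.Ln C p u)).toFinset.erase p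
  have hfib : ∀ b ∈ (K.erase p).image f, ((K.erase p).filter fun u => f u = b) = b ∧ Even b.card := by
    intro b hb'
    obtain ⟨u, hu, rfl⟩ := Finset.mem_image.1 hb'
    have hpC := hKC p hp
    have hun := hnb u hu
    refine ⟨Finset.ext fun r => ?_, ?_⟩
    · simp only [Finset.mem_filter, f]
      constructor
      · rintro ⟨hr, he⟩
        rw [← he]
        exact Finset.mem_erase.2 ⟨Finset.ne_of_mem_erase hr,
          (Set.Finite.mem_toFinset _).2 (P.right_mem (hnb r hr))⟩
      · intro hr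
        obtain ⟨hrp, hr'⟩ := Finset.mem_erase.1 hr
        have hr'' := (Set.Finite.mem_toFinset _).1 hr'
        have hrK : r ∈ K := hfull r hr''.1 fun z hz =>
          hr''.2 z ⟨hKC z hz, hKc z hz p hp, hKc z hz u (Finset.mem_of_mem_erase hu)⟩
        refine ⟨Finset.mem_erase.2 ⟨hrp, hrK⟩, ?_⟩
        congr 1
        refine Set.Finite.toFinset_inj.2 ?_
        exact P.Ln_eq hpC hun hr'' hrp
    · have hpL : p ∈ (Set.toFinite (H80.TTPolar.Ln C p u)).toFinset :=
        (Set.Finite.mem_toFinset _).2 (P.left_mem hpC)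
      obtain ⟨k, hk⟩ := P.odd_ncard_Ln hpC hun
      rw [Set.ncard_eq_toFinset_card _ (Set.toFinite _)] at hk
      simp only [f, Finset.card_erase_of_mem hpL, hk]
      exact ⟨k, by omega⟩
  have h2 : Even (K.erase p).card := by
    rw [Finset.card_eq_sum_card_image f]
    refine Finset.even_sum _ fun b hb' => ?_
    rw [(hfib b hb').1]
    exact (hfib b hb').2
  rw [Finset.card_erase_of_mem hp] at h2
  obtain ⟨k, hk⟩ := heven
  obtain ⟨l, hl⟩ := h2
  have := Finset.card_pos.2 ⟨p, hp⟩
  omega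

/-- With a twist, the square of the number of members divides the group order. -/
theorem Twist.sq_dvd_card (hT : Twist C) (H : Cls C) (hconn : Conn C) :
    C.ncard * C.ncard ∣ Nat.card M := by
  classical
  obtain ⟨φ, hφ, hm, hs⟩ := hT
  obtain ⟨a, ha⟩ := H.nonempty
  let Z : Subgroup M := Subgroup.centralizer {a}
  let Y : Subgroup ↥(commutator M) := Z.subgroupOf (commutator M)
  let S : Subgroup M := Y.map φ
  have hmemY : ∀ q ∈ nb C a, ∀ h : a * q ∈ commutator M, (⟨a * q, h⟩ : ↥(commutator M)) ∈ Y := by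
    intro q hq h
    refine Subgroup.mem_subgroupOf.2 (Subgroup.mem_centralizer_singleton_iff.2 ?_)
    exact ((Commute.refl a).mul_left hq.2.2.symm).eq
  obtain ⟨e, he⟩ := H.nonempty
  have hstep : ∀ y ∈ C, ∀ z ∈ nb C y, ∃ s ∈ S, cj s y = z := by
    intro y hy z hz
    let f : M → M := fun q =>
      if h : a * q ∈ commutator M then cj (φ ⟨a * q, h⟩) y else 1
    have himg : f '' nb C a = nb C y := by
      refine Set.eq_of_subset_of_ncard_le ?_ ?_ (Set.toFinite _)
      · rintro _ ⟨q, hq, rfl⟩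
        simp only [f, dif_pos (mul_mem_commutator H ha hq.1)]
        exact (hm a ha q hq _).2 y hy
      · rw [Set.InjOn.ncard_image, ncard_nb_eq H hy ha]
        intro q hq q' hq' e
        simp only [f, dif_pos (mul_mem_commutator H ha hq.1),
          dif_pos (mul_mem_commutator H ha hq'.1)] at e
        exact hs a ha q hq q' hq' _ _ y hy e
    rw [← himg] at hz
    obtain ⟨q, hq, rfl⟩ := hz
    refine ⟨_, ⟨⟨a * q, mul_mem_commutator H ha hq.1⟩, hmemY q hq _, rfl⟩, ?_⟩
    simp only [f, dif_pos (mul_mem_commutator H ha hq.1)]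
  have hreach : ∀ y : ↥C, ∃ s ∈ S, cj s a = (y : M) := by
    intro y
    have h := (SimpleGraph.reachable_iff_reflTransGen _ _).1 (hconn.preconnected ⟨a, ha⟩ y)
    induction h with
    | refl => exact ⟨1, one_mem _, cj_one _⟩
    | @tail p q _ hpq ih =>
      obtain ⟨s, hs', hsa⟩ := ih
      obtain ⟨t, ht, htp⟩ := hstep p p.2 q ⟨q.2, fun e => hpq.ne (Subtype.ext e.symm), by
        have := (SimpleGraph.fromRel_adj _ _ _).1 hpq
        exact this.2.elim id Commute.symm⟩
      exact ⟨t * s, mul_mem ht hs', by rw [← cj_cj, hsa, htp]⟩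
  have horb : H80.TTQuad.cjOrb S a = C := by
    ext y
    exact ⟨fun ⟨g, _, hg⟩ => hg ▸ H.mem_cj g ha, fun hy => hreach ⟨y, hy⟩⟩
  have h1 : C.ncard ∣ Nat.card ↥S := by
    rw [H80.TTQuad.card_eq_ncard_mul S a, horb]
    exact Dvd.intro _ rfl
  have h2 : Nat.card ↥S ∣ Nat.card ↥Z := by
    rw [Subgroup.card_map_of_injective hφ]
    rw [← Subgroup.card_map_of_injective (K := Y) (f := (commutator M).subtype) (commutator M).subtype_injective]
    refine Subgroup.card_dvd_of_le ?_
    rintro _ ⟨z, hz, rfl⟩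
    exact hz
  have h3 : Nat.card M = C.ncard * Nat.card ↥Z := by
    have htop : H80.TTQuad.cjOrb (⊤ : Subgroup M) a = C := by
      ext y
      exact ⟨fun ⟨g, _, hg⟩ => hg ▸ H.mem_cj g ha, fun hy =>
        (H.exists_cj ha hy).elim fun g hg => ⟨g, Subgroup.mem_top g, hg⟩⟩
    have := H80.TTQuad.card_eq_ncard_mul (⊤ : Subgroup M) a
    rw [htop, Subgroup.card_top] at this
    rw [this, top_inf_eq]
  rw [h3]
  exact Nat.mul_dvd_mul_left _ (h1.trans h2)

/-- Types M(22), M(23), M(24) have no twist. -/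
theorem not_twist_fischer (H : Cls C) (hconn : Conn C) (h : H7Fischer.IsFischerType C) :
    ¬ Twist C := by
  intro hT
  have hdvd := hT.sq_dvd_card H hconn
  obtain ⟨a, ha⟩ := H.nonempty
  obtain ⟨b, hb⟩ := H.nb_nonempty ha
  rcases h with h | h | h
  · obtain ⟨K, iK, iKf, g⟩ := H93.geo22 H.cl h
    rw [g.card_group ha, g.card_members ha] at hdvd
    exact absurd hdvd (by decide)
  · rw [(H93.geo23 H.cl h).card_group ha, (H93.geo23 H.cl h).card_members ha] at hdvd
    exact absurd hdvd (by decide)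
  · have hgrp : Cfsg.IsThreeTranspositionGroup C :=
      ⟨H.cl.1, fun g d hd => H44.tt_invariant H.cl g hd, H.cl.2.2⟩
    have hc := cores H
    have hprim := ((S5361.result H.cl H.center_eq_bot
      ⟨a, ha, b, hb.1, hb.2.1.symm, hb.2.2⟩).2).2
      ⟨le_bot_iff.1 (H.center_eq_bot ▸ hc.1), le_bot_iff.1 (H.center_eq_bot ▸ hc.2), hconn⟩
    obtain ⟨-, hcard, hG, -⟩ := S5375.result hgrp hprim h
    rw [hG, hcard] at hdvd
    exact absurd hdvd (by norm_num)

end Cfsg.Agent.H97.Fischer
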