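import Cfsg.Agent.Orthogonal.Frame
import Cfsg.Agent.Orthogonal.StdForms

/-!
Linear algebra over the field with three elements: families of anticommuting complex structures and
orthogonal families of one norm.
-/

set_option autoImplicit false
set_option linter.unusedSectionVars false

namespace Cfsg.Agent.H97.Fischer

open QuadraticMap Module
open Cfsg.Agent.Orthogonal (Nondeg O perp restr polar_self' qmap_smul map_add_polar)

universe u

theorem z3_cases : ∀ x : ZMod 3, x = 0 ∨ x = 1 ∨ x = -1 := by decide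

theorem two_ne_three : (2 : ZMod 3) ≠ 0 := by decide

section Halving

variable {V : Type u} [AddCommGroup V] [Module (ZMod 3) V] [FiniteDimensional (ZMod 3) V]

/-- A complex structure needs even dimension. -/
theorem even_finrank_of_sq (J : Module.End (ZMod 3) V) (hJ : J * J = -1) :
    2 ∣ finrank (ZMod 3) V := by
  by_contra h
  have hodd : Odd (finrank (ZMod 3) V) := Nat.not_even_iff_odd.1 fun he => h he.two_dvd
  have h1 := congrArg LinearMap.det hJ
  rw [map_mul, show (-1 : Module.End (ZMod 3) V) = (-1 : ZMod 3) • LinearMap.id by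
    rw [neg_one_smul]; rfl, LinearMap.det_smul, LinearMap.det_id, mul_one, hodd.neg_one_pow] at h1
  have key : ∀ d : ZMod 3, d * d ≠ -1 := by decide
  exact key _ h1

/-- The fixed space of an involution anticommuting with an invertible map has half the dimension. -/
theorem finrank_fix_of_anti (t w : Module.End (ZMod 3) V) (ht : t * t = 1) (hw : w * w = 1)
    (h : t * w = -(w * t)) :
    finrank (ZMod 3) V = 2 * finrank (ZMod 3) ↥(LinearMap.ker (t - 1)) := by
  have hA : ∀ x, x ∈ LinearMap.ker (t - 1) ↔ t x = x := fun x => by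
    simp [LinearMap.mem_ker, sub_eq_zero]
  have hB : ∀ x, x ∈ LinearMap.ker (t + 1) ↔ t x = -x := fun x => by
    simp [LinearMap.mem_ker, add_eq_zero_iff_eq_neg]
  have htt : ∀ x, t (t x) = x := fun x => LinearMap.congr_fun ht x
  have hww : ∀ x, w (w x) = x := fun x => LinearMap.congr_fun hw x
  have hwt : ∀ x, t (w x) = -(w (t x)) := fun x => LinearMap.congr_fun h x
  have hc : IsCompl (LinearMap.ker (t - 1)) (LinearMap.ker (t + 1)) := by
    refine ⟨disjoint_iff_inf_le.2 fun x hx => ?_, codisjoint_iff_le_sup.2 fun x _ => ?_⟩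
    · have h1 := (hA x).1 hx.1
      have h2 := (hB x).1 hx.2
      rw [Submodule.mem_bot]
      have h3 : (2 : ZMod 3) • x = 0 := by
        rw [two_smul]
        nth_rewrite 1 [h1.symm.trans h2]
        exact neg_add_cancel x
      exact (smul_eq_zero.1 h3).resolve_left two_ne_three
    · have e : x = (-(x + t x)) + (-(x - t x)) := by
        have : (3 : ZMod 3) • x = 0 := by rw [show (3 : ZMod 3) = 0 from rfl, zero_smul]
        rw [show (3 : ZMod 3) = 1 + 1 + 1 from rfl, add_smul, add_smul, one_smul] at this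
        calc x = x - (x + x + x) := by rw [this, sub_zero]
          _ = _ := by abel
      rw [e]
      refine Submodule.add_mem_sup ((hA _).2 ?_) ((hB _).2 ?_)
      · rw [map_neg, map_add, htt, add_comm]
      · rw [map_neg, map_sub, htt]; abel
  let f : ↥(LinearMap.ker (t - 1)) →ₗ[ZMod 3] ↥(LinearMap.ker (t + 1)) :=
    (w.domRestrict _).codRestrict _ fun x => (hB _).2 (by
      rw [LinearMap.domRestrict_apply, hwt, (hA _).1 x.2])
  have hbij : Function.Bijective f := by
    refine ⟨fun x y e => Subtype.ext ?_, fun y => ⟨⟨w y, (hA _).2 ?_⟩, Subtype.ext (hww _)⟩⟩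
    · have e' : w (x : V) = w (y : V) := congrArg Subtype.val e
      rw [← hww (x : V), e', hww]
    · rw [hwt, (hB _).1 y.2, map_neg, neg_neg]
  have h1 := (LinearEquiv.ofBijective f hbij).finrank_eq
  have h2 := Submodule.finrank_add_eq_of_isCompl hc
  omega

/-- Anticommuting involutions commuting with a complex structure halve the dimension in pairs. -/
theorem pow_dvd_of_involutions : ∀ (k : ℕ) {V : Type u} [AddCommGroup V] [Module (ZMod 3) V]
    [FiniteDimensional (ZMod 3) V] (h : ℕ → Module.End (ZMod 3) V) (J : Module.End (ZMod 3) V),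
    J * J = -1 → (∀ i < 2 * k, h i * h i = 1 ∧ Commute J (h i)) →
    (∀ i < 2 * k, ∀ j < 2 * k, i ≠ j → h i * h j = -(h j * h i)) →
    2 ^ (k + 1) ∣ finrank (ZMod 3) V := by
  intro k
  induction k with
  | zero => intro V _ _ _ h J hJ _ _; simpa using even_finrank_of_sq J hJ
  | succ k ih =>
    intro V _ _ _ h J hJ hh ha
    rw [finrank_fix_of_anti (h 0) (h 1) (hh 0 (by omega)).1 (hh 1 (by omega)).1
      (ha 0 (by omega) 1 (by omega) (by omega)), pow_succ']
    refine Nat.mul_dvd_mul_left 2 ?_
    set W := LinearMap.ker (h 0 - 1)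
    have hW : ∀ x, x ∈ W ↔ h 0 x = x := fun x => by simp [W, LinearMap.mem_ker, sub_eq_zero]
    have hpres : ∀ f : Module.End (ZMod 3) V, Commute f (h 0) → ∀ x ∈ W, f x ∈ W :=
      fun f hf x hx => (hW _).2 (by
        rw [← Module.End.mul_apply, ← hf.eq, Module.End.mul_apply, (hW x).1 hx])
    let g : ℕ → Module.End (ZMod 3) V := fun i => J * (h 1 * h (i + 2))
    have hJW := (hh 0 (by omega)).2
    have hg0 : ∀ i, i < 2 * k → Commute (g i) (h 0) := by
      intro i hi
      refine hJW.mul_left ?_
      show h 1 * h (i + 2) * h 0 = h 0 * (h 1 * h (i + 2))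
      rw [mul_assoc, ha (i + 2) (by omega) 0 (by omega) (by omega), mul_neg, ← mul_assoc,
        ha 1 (by omega) 0 (by omega) (by omega), neg_mul, neg_neg, mul_assoc]
    have hJg : ∀ i, i < 2 * k → Commute J (g i) := fun i hi =>
      (Commute.refl J).mul_right ((hh 1 (by omega)).2.mul_right (hh (i + 2) (by omega)).2)
    have hprod : ∀ i j, i < 2 * k → j < 2 * k → g i * g j = h (i + 2) * h (j + 2) := by
      intro i j hi hj
      have e1 : Commute (h 1 * h (i + 2)) J :=
        ((hh 1 (by omega)).2.mul_right (hh (i + 2) (by omega)).2).symm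
      calc g i * g j = J * ((h 1 * h (i + 2)) * J) * (h 1 * h (j + 2)) := by
            simp only [g, mul_assoc]
        _ = (J * J) * (h 1 * h (i + 2) * h 1 * h (j + 2)) := by
            rw [e1.eq]; simp only [mul_assoc]
        _ = h (i + 2) * h (j + 2) := by
            rw [hJ, mul_assoc (h 1) (h (i + 2)) (h 1), ha (i + 2) (by omega) 1 (by omega) (by omega),
              mul_neg, ← mul_assoc (h 1) (h 1), (hh 1 (by omega)).1, one_mul, neg_mul, neg_mul, mul_neg, neg_neg, one_mul]
    refine ih (fun i => if hi : i < 2 * k then (g i).restrict (hpres _ (hg0 i hi)) else 1)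
      (J.restrict (hpres _ hJW)) (LinearMap.ext fun x => Subtype.ext ?_) (fun i hi => ?_)
      fun i hi j hj hij => ?_
    · simpa using LinearMap.congr_fun hJ (x : V)
    · rw [dif_pos hi]
      refine ⟨LinearMap.ext fun x => Subtype.ext ?_, LinearMap.ext fun x => Subtype.ext ?_⟩
      · have := LinearMap.congr_fun ((hprod i i hi hi).trans (hh (i + 2) (by omega)).1) (x : V)
        simpa using this
      · simpa using LinearMap.congr_fun (hJg i hi).eq (x : V)
    · rw [dif_pos hi, dif_pos hj]
      refine LinearMap.ext fun x => Subtype.ext ?_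
      have e : g i * g j = -(g j * g i) := by
        rw [hprod i j hi hj, hprod j i hj hi]
        exact ha (i + 2) (by omega) (j + 2) (by omega) (by omega)
      simpa using LinearMap.congr_fun e (x : V)

/-- Anticommuting complex structures, `2k + 2` of them, give `2 ^ (k + 1)` dividing the dimension. -/
theorem pow_dvd_of_anticommuting (k : ℕ) (g : ℕ → Module.End (ZMod 3) V)
    (hsq : ∀ i < 2 * k + 2, g i * g i = -1)
    (ha : ∀ i < 2 * k + 2, ∀ j < 2 * k + 2, i ≠ j → g i * g j = -(g j * g i)) :
    2 ^ (k + 1) ∣ finrank (ZMod 3) V := by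
  set h : ℕ → Module.End (ZMod 3) V := fun i => g 0 * g 1 * g (i + 2)
  have e0 : ∀ x : Module.End (ZMod 3) V, g 0 * (g 0 * x) = -x := fun x => by
    rw [← mul_assoc, hsq 0 (by omega), neg_one_mul]
  have e1 : ∀ x : Module.End (ZMod 3) V, g 1 * (g 1 * x) = -x := fun x => by
    rw [← mul_assoc, hsq 1 (by omega), neg_one_mul]
  have s10 : ∀ x : Module.End (ZMod 3) V, g 1 * (g 0 * x) = -(g 0 * (g 1 * x)) := fun x => by
    rw [← mul_assoc, ha 1 (by omega) 0 (by omega) (by omega), neg_mul, mul_assoc]
  have si0 : ∀ i < 2 * k, ∀ x : Module.End (ZMod 3) V, g (i + 2) * (g 0 * x) = -(g 0 * (g (i + 2) * x)) :=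
    fun i hi x => by
      rw [← mul_assoc, ha (i + 2) (by omega) 0 (by omega) (by omega), neg_mul, mul_assoc]
  have si1 : ∀ i < 2 * k, ∀ x : Module.End (ZMod 3) V, g (i + 2) * (g 1 * x) = -(g 1 * (g (i + 2) * x)) :=
    fun i hi x => by
      rw [← mul_assoc, ha (i + 2) (by omega) 1 (by omega) (by omega), neg_mul, mul_assoc]
  have hprod : ∀ i < 2 * k, ∀ j, h i * h j = -(g (i + 2) * g (j + 2)) := by
    intro i hi j
    simp only [h, mul_assoc, si0 i hi, si1 i hi, mul_neg, neg_neg, s10, e0, e1]
  refine pow_dvd_of_involutions k h (g 0) (hsq 0 (by omega)) (fun i hi => ⟨?_, ?_⟩)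
    fun i hi j hj hij => ?_
  · rw [hprod i hi i, hsq _ (by omega), neg_neg]
  · show g 0 * (g 0 * g 1 * g (i + 2)) = g 0 * g 1 * g (i + 2) * g 0
    have h2 : g (i + 2) * g 0 = -(g 0 * g (i + 2)) :=
      ha (i + 2) (by omega) 0 (by omega) (by omega)
    simp only [mul_assoc, h2, mul_neg, s10, e0, neg_neg]
  · rw [hprod i hi j, hprod j hj i, ha (i + 2) (by omega) (j + 2) (by omega) (by omega)]

end Halving

section Orth

variable {n : ℕ} {Q : QuadraticForm (ZMod 3) (Fin n → ZMod 3)} {c : ZMod 3}

/-- Pairwise perpendicular vectors of one norm. -/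
def OrthFam {V : Type*} [AddCommGroup V] [Module (ZMod 3) V] (Q : QuadraticForm (ZMod 3) V)
    (c : ZMod 3) {j : ℕ} (u : Fin j → V) : Prop :=
  (∀ i, Q (u i) = c) ∧ ∀ i k, i ≠ k → polar Q (u i) (u k) = 0

theorem OrthFam.polar_combo {V : Type*} [AddCommGroup V] [Module (ZMod 3) V]
    {Q : QuadraticForm (ZMod 3) V} {j : ℕ} {u : Fin j → V} (hu : OrthFam Q c u)
    (a : Fin j → ZMod 3) (k : Fin j) : polar Q (∑ i, a i • u i) (u k) = a k * (2 * c) := by
  rw [← Orthogonal.polarBilin_apply', map_sum, LinearMap.sum_apply, Finset.sum_eq_single k]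
  · rw [LinearMap.map_smul, LinearMap.smul_apply, Orthogonal.polarBilin_apply', polar_self', hu.1,
      smul_eq_mul]
  · intro i _ hi
    rw [LinearMap.map_smul, LinearMap.smul_apply, Orthogonal.polarBilin_apply', hu.2 i k hi,
      smul_zero]
  · exact fun h => absurd (Finset.mem_univ k) h

theorem OrthFam.linearIndependent {V : Type*} [AddCommGroup V] [Module (ZMod 3) V]
    {Q : QuadraticForm (ZMod 3) V} (hc : c ≠ 0) {j : ℕ} {u : Fin j → V} (hu : OrthFam Q c u) :
    LinearIndependent (ZMod 3) u := by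
  rw [Fintype.linearIndependent_iff]
  intro a ha k
  have h := hu.polar_combo a k
  rw [ha, polar_zero_left] at h
  exact (mul_eq_zero.1 h.symm).resolve_right (mul_ne_zero two_ne_three hc)

theorem OrthFam.exists_next (hQ : Nondeg Q) (hc : c ≠ 0) {j : ℕ} {u : Fin j → Fin n → ZMod 3}
    (hu : OrthFam Q c u) (hj : j + 2 ≤ n) :
    ∃ v, Q v = c ∧ ∀ i, polar Q (u i) v = 0 := by
  set W := Submodule.span (ZMod 3) (Set.range u)
  have hW : Nondeg (restr Q W) := by
    rw [Orthogonal.nondeg_restr_iff, eq_bot_iff]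
    rintro x ⟨hx, hxp⟩
    obtain ⟨a, rfl⟩ := (Submodule.mem_span_range_iff_exists_fun (ZMod 3)).1 hx
    rw [Submodule.mem_bot]
    refine Finset.sum_eq_zero fun k _ => ?_
    have h := hu.polar_combo a k
    rw [(Orthogonal.mem_perp' Q).1 hxp _ (Submodule.subset_span ⟨k, rfl⟩)] at h
    rw [(mul_eq_zero.1 h.symm).resolve_right (mul_ne_zero two_ne_three hc), zero_smul]
  have hfr : finrank (ZMod 3) W ≤ j :=
    le_of_le_of_eq (finrank_range_le_card u) (Fintype.card_fin j)
  have hadd := hQ.finrank_add_perp W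
  rw [Module.finrank_fin_fun] at hadd
  obtain ⟨v, hv⟩ := (hQ.nondeg_perp hW).exists_value (by omega) c
  exact ⟨v, hv, fun i => (Orthogonal.mem_perp Q).1 v.2 _ (Submodule.subset_span ⟨i, rfl⟩)⟩

theorem exists_orthFam (hQ : Nondeg Q) (hc : c ≠ 0) :
    ∀ j, j + 1 ≤ n → ∃ u : Fin j → Fin n → ZMod 3, OrthFam Q c u := by
  intro j
  induction j with
  | zero => intro _; exact ⟨fun i => i.elim0, fun i => i.elim0, fun i => i.elim0⟩
  | succ j ih =>
    intro hj
    obtain ⟨u, hu⟩ := ih (by omega)
    obtain ⟨v, hv, hvp⟩ := hu.exists_next hQ hc (by omega)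
    refine ⟨Fin.snoc u v, fun i => ?_, fun i k hik => ?_⟩
    · refine Fin.lastCases ?_ (fun i => ?_) i
      · rw [Fin.snoc_last]; exact hv
      · rw [Fin.snoc_castSucc]; exact hu.1 i
    · induction i using Fin.lastCases with
      | last =>
        induction k using Fin.lastCases with
        | last => exact absurd rfl hik
        | cast k => rw [Fin.snoc_last, Fin.snoc_castSucc, polar_comm]; exact hvp k
      | cast i =>
        induction k using Fin.lastCases with
        | last => rw [Fin.snoc_last, Fin.snoc_castSucc]; exact hvp i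
        | cast k =>
          rw [Fin.snoc_castSucc, Fin.snoc_castSucc]
          exact hu.2 i k fun e => hik (by rw [e])

end Orth

/-- The sum of eight squares. -/
def diag8 : QuadraticForm (ZMod 3) (Fin 8 → ZMod 3) :=
  QuadraticMap.weightedSumSquares (ZMod 3) fun _ : Fin 8 => (1 : ZMod 3)

theorem diag8_apply (x : Fin 8 → ZMod 3) : diag8 x = ∑ i, x i * x i := by
  simp [diag8, QuadraticMap.weightedSumSquares_apply]

/-- Eight perpendicular vectors of one norm identify the orthogonal group. -/
theorem OrthFam.equiv_diag {V : Type u} [AddCommGroup V] [Module (ZMod 3) V]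
    [FiniteDimensional (ZMod 3) V] {Q : QuadraticForm (ZMod 3) V} {c : ZMod 3} (hc : c ≠ 0)
    {u : Fin 8 → V} (hu : OrthFam Q c u) (hfr : finrank (ZMod 3) V = 8) :
    ∃ E : (Fin 8 → ZMod 3) ≃ₗ[ZMod 3] V,
      (∀ i, E (Pi.single i 1) = u i) ∧ (∀ x, Q (E x) = c * diag8 x) ∧
        Nonempty (O Q ≃* O diag8) := by
  classical
  let B := basisOfLinearIndependentOfCardEqFinrank (hu.linearIndependent hc)
    (by rw [Fintype.card_fin, hfr])
  let E : (Fin 8 → ZMod 3) ≃ₗ[ZMod 3] V := B.equivFun.symm
  have hB : ∀ x, E x = ∑ i, x i • u i := fun x => by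
    simp [E, B, Module.Basis.equivFun_symm_apply, coe_basisOfLinearIndependentOfCardEqFinrank]
  have hQE : ∀ x, Q (E x) = c * diag8 x := by
    intro x
    have h2 : polar Q (E x) (E x) = (2 * c) * diag8 x := by
      rw [diag8_apply, hB]
      conv_lhs => rw [← Orthogonal.polarBilin_apply', map_sum]
      rw [Finset.mul_sum]
      refine Finset.sum_congr rfl fun k _ => ?_
      rw [LinearMap.map_smul, smul_eq_mul, Orthogonal.polarBilin_apply', hu.polar_combo x k]
      ring
    rw [polar_self', mul_assoc] at h2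
    exact mul_left_cancel₀ two_ne_three h2
  refine ⟨E, fun i => ?_, hQE, ?_⟩
  · rw [hB, Finset.sum_eq_single i]
    · rw [Pi.single_eq_same, one_smul]
    · intro j _ hj; rw [Pi.single_eq_of_ne hj, zero_smul]
    · exact fun h => absurd (Finset.mem_univ i) h
  · have hsub : O (c • diag8) = O diag8 := by
      ext g
      simp only [Orthogonal.mem_O, _root_.smul_apply, smul_eq_mul]
      exact forall_congr' fun x => ⟨mul_left_cancel₀ hc, fun h => by rw [h]⟩
    exact ⟨(Orthogonal.congrO E (Q := c • diag8) (Q' := Q)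
      (fun x => by rw [hQE]; rfl)).symm.trans (MulEquiv.subgroupCongr hsub)⟩

end Cfsg.Agent.H97.Fischer
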