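import Cfsg.Agent.H97.Fischer.Kill
import Cfsg.Agent.H97.Fischer.Linear
import Cfsg.Agent.H97.Refl3.Class
import Cfsg.Agent.H97.Refl3.Members
import Cfsg.Agent.H80.TTFischer.Simple

/-!
Projective reflection groups over the field with three elements with a twist: the dimension is
eight and the space has an orthonormal basis.
-/

set_option autoImplicit false
set_option linter.unusedSectionVars false

namespace Cfsg.Agent.H97.Fischer

open Cfsg QuadraticMap Module
open Cfsg.Agent.Orthogonal (Nondeg O rO rO_app polar_self' exists_perp_pair_value)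
open H76.LocallyS3 (nb cj cj_cj cj_injective commute_cj_iff)
open H80.TTQuad (Cls cj_one cj_inv_cj cj_cj_inv cj_eq_of_commute commute_of_cj_eq nb_symm)
open H7Fischer (refl3)
open H97.Refl3 (RGrp PGrp toOrth toOrth_injective toOrth_rf rf pt pt_eq_iff exists_pt pt_mem
  commute_pt conj_rf mem_nb_pt)

variable {n : ℕ} {Q : QuadraticForm (ZMod 3) (Fin n → ZMod 3)} {c : ZMod 3}

variable (Q c) in
/-- The linear map of an element of the reflection group. -/
noncomputable def lmap (y : RGrp Q c) : Module.End (ZMod 3) (Fin n → ZMod 3) :=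
  (toOrth Q c y : (Fin n → ZMod 3) ≃ₗ[ZMod 3] (Fin n → ZMod 3)).toLinearMap

theorem lmap_mul (y z : RGrp Q c) : lmap Q c (y * z) = lmap Q c y * lmap Q c z := by
  rw [lmap, map_mul]; rfl

theorem lmap_one : lmap Q c 1 = 1 := by rw [lmap, map_one]; rfl

theorem lmap_injective : Function.Injective (lmap Q c) := fun _ _ h =>
  toOrth_injective (Orthogonal.O.ext_app fun x => LinearMap.congr_fun h x)

theorem lmap_form (y : RGrp Q c) (x : Fin n → ZMod 3) : Q (lmap Q c y x) = Q x :=
  Orthogonal.O.map_app _ x

theorem lmap_polar (y : RGrp Q c) (x z : Fin n → ZMod 3) :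
    polar Q (lmap Q c y x) (lmap Q c y z) = polar Q x z := by
  simp only [QuadraticMap.polar, ← map_add, lmap_form]

theorem lmap_rf {v : Fin n → ZMod 3} (hv : Q v = c) (x : Fin n → ZMod 3) :
    lmap Q c (rf hv) x = x - ((Q v)⁻¹ * polar Q v x) • v := by
  show (toOrth Q c (rf hv) : (Fin n → ZMod 3) ≃ₗ[ZMod 3] (Fin n → ZMod 3)) x = _
  rw [toOrth_rf, rO_app]

/-- An element acting as a scalar is central. -/
theorem mem_center_of_scalar {y : RGrp Q c} {s : ZMod 3} (h : ∀ x, lmap Q c y x = s • x) :
    y ∈ Subgroup.center (RGrp Q c) :=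
  Subgroup.mem_center_iff.2 fun z => lmap_injective (LinearMap.ext fun x => by
    rw [lmap_mul, lmap_mul, Module.End.mul_apply, Module.End.mul_apply, h, h, map_smul])

section Facts

variable (hQ : Nondeg Q) (hc : c ≠ 0) (hn : 5 ≤ n)
include hQ hc hn

/-- A lift of a moving involution is a complex structure. -/
theorem moves_lift {y : RGrp Q c} (h : Moves (refl3 Q c) (QuotientGroup.mk y)) :
    lmap Q c y * lmap Q c y = -1 ∧ ∀ x, polar Q x (lmap Q c y x) = 0 := by
  set g := lmap Q c y
  have hperp : ∀ v, Q v = c → polar Q v (g v) = 0 := by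
    intro v hv
    obtain ⟨hv', e⟩ := conj_rf hQ hc y hv
    have h1 := h.2 _ (pt_mem hv)
    have e2 : cj (QuotientGroup.mk y) (pt hv) = pt hv' := by
      rw [cj, pt, pt, ← QuotientGroup.mk_inv, ← QuotientGroup.mk_mul, ← QuotientGroup.mk_mul, e]
    rw [e2] at h1
    exact (mem_nb_pt hQ hc hn hv hv').1 h1
  have hz : y * y ∈ Subgroup.center (RGrp Q c) := by
    rw [← QuotientGroup.eq_one_iff, QuotientGroup.mk_mul]
    exact h.1
  obtain ⟨s, hs, hsx⟩ := H80.TTFischer.scalar_of_center hQ hc hn hz
  have hgg : ∀ x, g (g x) = s • x := fun x => by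
    rw [← hsx x, ← Module.End.mul_apply, ← lmap_mul]
    rfl
  have hneg : s = -1 := by
    refine hs.resolve_left fun hs1 => ?_
    subst hs1
    obtain ⟨v, hv⟩ := hQ.exists_value (by rw [Module.finrank_fin_fun]; omega) c
    obtain ⟨u, hvu, hgu, hu⟩ := exists_perp_pair_value hQ two_ne_three
      (by rw [Module.finrank_fin_fun]; exact hn) (show Q v ≠ 0 by rw [hv]; exact hc) (g v) c
    have e1 : ∀ z, g (g z) = z := fun z => by rw [hgg, one_smul]
    have h2 : polar Q v (g u) = 0 := by rw [← lmap_polar y, e1]; exact hgu
    have h3 : polar Q (g v) (g u) = 0 := by rw [lmap_polar]; exact hvu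
    set w := v + g v + (u + g u)
    have hw : Q w = c := by
      simp only [w, Orthogonal.map_add_polar, polar_add_left, polar_add_right, lmap_form, g, hv, hu]
      rw [hperp v hv, hperp u hu, hvu, hgu, h2, h3]
      have h30 : (3 : ZMod 3) = 0 := rfl
      linear_combination c * h30
    have hgw : g w = w := by simp only [w, map_add, e1]; abel
    have := hperp w hw
    rw [hgw, polar_self', hw] at this
    exact mul_ne_zero two_ne_three hc this
  subst hneg
  refine ⟨LinearMap.ext fun x => ?_, fun x => ?_⟩
  · rw [Module.End.mul_apply, hgg, LinearMap.neg_apply, Module.End.one_apply, neg_one_smul]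
  · have h4 := lmap_polar y x (g x)
    rw [hgg, neg_one_smul, polar_neg_right, polar_comm] at h4
    exact (show ∀ t : ZMod 3, -t = t → t = 0 by decide) _ h4

/-- A twist forces dimension eight and an orthonormal basis of one norm. -/
theorem twist_dim (hT : Twist (refl3 Q c)) :
    n = 8 ∧ ∃ u : Fin 8 → Fin n → ZMod 3, OrthFam Q c u := by
  obtain ⟨φ, -, hm, -⟩ := hT
  have H : Cfsg.IsThreeTranspositionClass (refl3 Q c) := H97.Refl3.class_refl3 hQ hc hn
  obtain ⟨u, hu⟩ := exists_orthFam hQ hc (n - 1) (by omega)
  let p : ℕ → PGrp Q c := fun i => if h : i < n - 1 then pt (hu.1 ⟨i, h⟩) else 1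
  have hp : ∀ {i} (h : i < n - 1), p i = pt (hu.1 ⟨i, h⟩) := fun h => dif_pos h
  have hnb : ∀ {i j}, i < n - 1 → j < n - 1 → i ≠ j → p j ∈ nb (refl3 Q c) (p i) := by
    intro i j hi hj hij
    rw [hp hi, hp hj, mem_nb_pt hQ hc hn]
    exact hu.2 _ _ fun e => hij (congrArg Fin.val e)
  have hmem : ∀ {a b}, a ∈ refl3 Q c → b ∈ refl3 Q c → a * b ∈ commutator (PGrp Q c) := by
    intro a b ha hb
    obtain ⟨g, rfl⟩ := H44.tt_class_conj H ha hb
    have := Subgroup.commutator_mem_commutator (Subgroup.mem_top a) (Subgroup.mem_top g)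
    rw [commutatorElement_def, H44.tt_inv H.1 ha] at this
    rw [show a * (g * a * g⁻¹) = a * g * a * g⁻¹ by group]
    exact this
  have hpm : ∀ {i}, i < n - 1 → p i ∈ refl3 Q c := fun h => by rw [hp h]; exact pt_mem _
  let x : ℕ → PGrp Q c := fun i => if h : i + 1 < n - 1 then
    φ ⟨p 0 * p (i + 1), hmem (hpm (by omega)) (hpm h)⟩ else 1
  let y : ℕ → RGrp Q c := fun i => (x i).out
  have hy : ∀ i, QuotientGroup.mk (y i) = x i := fun i => QuotientGroup.out_eq' _
  let g : ℕ → Module.End (ZMod 3) (Fin n → ZMod 3) := fun i => lmap Q c (y i)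
  have hsq : ∀ i < n - 2, g i * g i = -1 := by
    intro i hi
    refine (moves_lift hQ hc hn ?_).1
    rw [hy]
    simp only [x, dif_pos (show i + 1 < n - 1 by omega)]
    exact hm _ (hpm (by omega)) _ (hnb (by omega) (by omega) (by omega)) _
  have hanti : ∀ i < n - 2, ∀ j < n - 2, i ≠ j → g i * g j = -(g j * g i) := by
    intro i hi j hj hij
    have h1 : lmap Q c (y i * y j) * lmap Q c (y i * y j) = -1 := by
      refine (moves_lift hQ hc hn ?_).1
      rw [QuotientGroup.mk_mul, hy, hy]
      simp only [x, dif_pos (show i + 1 < n - 1 by omega), dif_pos (show j + 1 < n - 1 by omega)]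
      rw [← map_mul]
      have hpi := hnb (show i + 1 < n - 1 by omega) (show j + 1 < n - 1 by omega) (by omega)
      have hc0 : Commute (p 0) (p (i + 1)) :=
        (hnb (show 0 < n - 1 by omega) (show i + 1 < n - 1 by omega) (by omega)).2.2
      have e : ∀ (h1 : p 0 * p (i + 1) ∈ commutator (PGrp Q c))
          (h2 : p 0 * p (j + 1) ∈ commutator (PGrp Q c)),
          (⟨_, h1⟩ * ⟨_, h2⟩ : ↥(commutator (PGrp Q c))) =
            ⟨p (i + 1) * p (j + 1), hmem (hpm (by omega)) (hpm (by omega))⟩ :=
        fun h1 h2 => Subtype.ext (by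
          show p 0 * p (i + 1) * (p 0 * p (j + 1)) = p (i + 1) * p (j + 1)
          rw [hc0.eq, mul_assoc, ← mul_assoc (p 0) (p 0), H44.tt_mul_self H.1 (hpm (by omega)),
            one_mul])
      rw [e]
      exact hm _ (hpm (by omega)) _ hpi _
    rw [lmap_mul] at h1
    have h2 : g i * (g i * g j * (g i * g j)) * g j = g i * (-1) * g j := by rw [h1]
    have h3 : g i * (g i * g j * (g i * g j)) * g j = g j * g i := by
      calc g i * (g i * g j * (g i * g j)) * g j
          = (g i * g i) * (g j * g i) * (g j * g j) := by simp only [mul_assoc]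
        _ = g j * g i := by rw [hsq i hi, hsq j hj]; exact LinearMap.ext fun v => by simp
    rw [h3] at h2
    rw [h2]
    exact LinearMap.ext fun v => by simp
  have hdiv := pow_dvd_of_anticommuting ((n - 4) / 2) g
    (fun i hi => hsq i (by omega)) (fun i hi j hj => hanti i (by omega) j (by omega))
  rw [Module.finrank_fin_fun] at hdiv
  have h8 : n = 8 := by
    rcases Nat.lt_or_ge n 10 with hlt | hge
    · interval_cases n <;> first | rfl | norm_num at hdiv
    · exfalso
      have hbig : ∀ k, 3 ≤ k → 2 * k + 5 < 2 ^ (k + 1) := fun k hk => by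
        induction k, hk using Nat.le_induction with
        | base => norm_num
        | succ k _ ih => rw [pow_succ]; omega
      have h1 := hbig ((n - 4) / 2) (by omega)
      have h2 := Nat.le_of_dvd (by omega) hdiv
      omega
  subst h8
  refine ⟨rfl, ?_⟩
  -- an orthonormal basis, by pairs
  set J := g 0
  have hJ : J * J = -1 ∧ ∀ x, polar Q x (J x) = 0 :=
    moves_lift hQ hc hn (by
      rw [hy]
      simp only [x, dif_pos (show (0 : ℕ) + 1 < 8 - 1 by omega)]
      exact hm _ (hpm (by omega)) _ (hnb (by omega) (by omega) (by omega)) _)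
  have key : ∀ i ≤ 4, ∃ (j : ℕ) (u : Fin j → Fin 8 → ZMod 3), j = 2 * i ∧ OrthFam Q c u ∧
      ∀ k, J (u k) ∈ Submodule.span (ZMod 3) (Set.range u) := by
    intro i
    induction i with
    | zero => exact fun _ => ⟨0, fun k => k.elim0, rfl, ⟨fun k => k.elim0, fun k => k.elim0⟩, fun k => k.elim0⟩
    | succ i ih =>
      intro hi
      obtain ⟨j, u, hj, hu, hJu⟩ := ih (by omega)
      obtain ⟨v, hv, hvp⟩ := hu.exists_next hQ hc (by omega)
      have hJJ : ∀ x, J (J x) = -x := fun x => LinearMap.congr_fun hJ.1 x
      have hJv : ∀ k, polar Q (u k) (J v) = 0 := by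
        intro k
        obtain ⟨a, ha⟩ := (Submodule.mem_span_range_iff_exists_fun (ZMod 3)).1 (hJu k)
        have h1 : polar Q (J (u k)) v = 0 := by
          rw [← ha, ← Orthogonal.polarBilin_apply', map_sum, LinearMap.sum_apply]
          refine Finset.sum_eq_zero fun l _ => ?_
          rw [LinearMap.map_smul, LinearMap.smul_apply, Orthogonal.polarBilin_apply', hvp, smul_zero]
        have h2 : polar Q (J (J (u k))) (J v) = 0 := by rw [← h1]; exact lmap_polar _ _ _
        rw [hJJ, polar_neg_left, neg_eq_zero] at h2
        exact h2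
      let w : Fin (j + 1 + 1) → Fin 8 → ZMod 3 := Fin.snoc (Fin.snoc u v) (J v)
      have hJvv : Q (J v) = c := (lmap_form _ v).trans hv
      refine ⟨_, w, by omega, ⟨fun k => ?_, fun k l hkl => ?_⟩, fun k => ?_⟩
      · induction k using Fin.lastCases with
        | last => simp only [w, Fin.snoc_last]; exact hJvv
        | cast k =>
          induction k using Fin.lastCases with
          | last => simp only [w, Fin.snoc_castSucc, Fin.snoc_last]; exact hv
          | cast k => simp only [w, Fin.snoc_castSucc]; exact hu.1 k
      · induction k using Fin.lastCases with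
        | last =>
          induction l using Fin.lastCases with
          | last => exact absurd rfl hkl
          | cast l =>
            induction l using Fin.lastCases with
            | last => simp only [w, Fin.snoc_castSucc, Fin.snoc_last]; rw [polar_comm]; exact hJ.2 v
            | cast l => simp only [w, Fin.snoc_castSucc, Fin.snoc_last]; rw [polar_comm]; exact hJv l
        | cast k =>
          induction l using Fin.lastCases with
          | last =>
            induction k using Fin.lastCases with
            | last => simp only [w, Fin.snoc_castSucc, Fin.snoc_last]; exact hJ.2 v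
            | cast k => simp only [w, Fin.snoc_castSucc, Fin.snoc_last]; exact hJv k
          | cast l =>
            induction k using Fin.lastCases with
            | last =>
              induction l using Fin.lastCases with
              | last => exact absurd rfl hkl
              | cast l =>
                simp only [w, Fin.snoc_castSucc, Fin.snoc_last]; rw [polar_comm]; exact hvp l
            | cast k =>
              induction l using Fin.lastCases with
              | last => simp only [w, Fin.snoc_castSucc, Fin.snoc_last]; exact hvp k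
              | cast l =>
                simp only [w, Fin.snoc_castSucc]
                exact hu.2 k l fun e => hkl (by rw [e])
      · have hr : ∀ l, u l ∈ Submodule.span (ZMod 3) (Set.range w) := fun l =>
          Submodule.subset_span ⟨Fin.castSucc (Fin.castSucc l), by simp [w]⟩
        have hvw : v ∈ Submodule.span (ZMod 3) (Set.range w) :=
          Submodule.subset_span ⟨Fin.castSucc (Fin.last _), by simp [w]⟩
        have hJw : J v ∈ Submodule.span (ZMod 3) (Set.range w) :=
          Submodule.subset_span ⟨Fin.last _, by simp [w]⟩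
        induction k using Fin.lastCases with
        | last => simp only [w, Fin.snoc_last]; rw [hJJ]; exact Submodule.neg_mem _ hvw
        | cast k =>
          induction k using Fin.lastCases with
          | last => simp only [w, Fin.snoc_castSucc, Fin.snoc_last]; exact hJw
          | cast k =>
            simp only [w, Fin.snoc_castSucc]
            refine Submodule.span_le.2 ?_ (hJu k)
            rintro _ ⟨l, rfl⟩
            exact hr l
  obtain ⟨j, u, rfl, hu, -⟩ := key 4 le_rfl
  exact ⟨u, hu⟩

end Facts

end Cfsg.Agent.H97.Fischer
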