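import Cfsg.Agent.H97.Fischer.Kill
import Cfsg.Agent.H7Fischer.Models
import Cfsg.Agent.H44.OrthTransvection
import Cfsg.Agent.Orthogonal.MaxTS
import Cfsg.Agent.Orthogonal.StdForms
import Cfsg.Agent.Symplectic.SymmTwo

/-!
Orthogonal transvections over the field with two elements with a twist: the form is hyperbolic of
dimension eight.
-/

set_option autoImplicit false
set_option linter.unusedSectionVars false

namespace Cfsg.Agent.H97.Fischer

open Cfsg QuadraticMap Module
open Cfsg.Agent.Orthogonal (Nondeg O rO toO reflIso perp TotSing)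
open H76.LocallyS3 (nb cj cj_cj cj_injective commute_cj_iff)
open H80.TTQuad (Cls cj_one cj_inv_cj cj_cj_inv cj_eq_of_commute commute_of_cj_eq nb_symm)
open H7Fischer (orthTv)

variable {ι : Type} [Fintype ι] [DecidableEq ι] {Q : QuadraticForm (ZMod 2) (ι → ZMod 2)}

theorem z2_two : (2 : ZMod 2) = 0 := rfl

theorem z2_self {V : Type*} [AddCommGroup V] [Module (ZMod 2) V] (v : V) : v + v = 0 := by
  rw [← two_smul (ZMod 2) v, z2_two, zero_smul]

theorem z2_neg {V : Type*} [AddCommGroup V] [Module (ZMod 2) V] (v : V) : -v = v :=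
  neg_eq_of_add_eq_zero_right (z2_self v)

variable (Q) in
/-- The linear map of an isometry. -/
noncomputable def lm (x : Cfsg.isometryGroup (ZMod 2) (⇑Q)) :
    Module.End (ZMod 2) (ι → ZMod 2) :=
  (toO Q x : (ι → ZMod 2) ≃ₗ[ZMod 2] (ι → ZMod 2)).toLinearMap

theorem lm_mul (x y : Cfsg.isometryGroup (ZMod 2) (⇑Q)) (v : ι → ZMod 2) :
    lm Q (x * y) v = lm Q x (lm Q y v) := by
  rw [lm, map_mul]; rfl

theorem lm_one (v : ι → ZMod 2) : lm Q 1 v = v := by rw [lm, map_one]; rfl

theorem lm_form (x : Cfsg.isometryGroup (ZMod 2) (⇑Q)) (v : ι → ZMod 2) : Q (lm Q x v) = Q v :=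
  Orthogonal.O.map_app _ v

theorem lm_polar (x : Cfsg.isometryGroup (ZMod 2) (⇑Q)) (v w : ι → ZMod 2) :
    polar Q (lm Q x v) (lm Q x w) = polar Q v w :=
  Orthogonal.O.polar_app _ v w

theorem lm_injective {x y : Cfsg.isometryGroup (ZMod 2) (⇑Q)} (h : ∀ v, lm Q x v = lm Q y v) :
    x = y :=
  (toO Q).injective (Orthogonal.O.ext_app h)

variable (Q) in
/-- The transvection of a vector. -/
noncomputable def tv (v : ι → ZMod 2) : Cfsg.isometryGroup (ZMod 2) (⇑Q) := reflIso Q v

theorem lm_tv {v : ι → ZMod 2} (hv : Q v = 1) (x : ι → ZMod 2) :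
    lm Q (tv Q v) x = x + polar Q v x • v := by
  show (toO Q (reflIso Q v) : (ι → ZMod 2) ≃ₗ[ZMod 2] (ι → ZMod 2)) x = _
  rw [Orthogonal.reflIso, MulEquiv.apply_symm_apply, Orthogonal.rO_app, hv, inv_one, one_mul,
    sub_eq_add_neg, z2_neg]

theorem cj_tv (x : Cfsg.isometryGroup (ZMod 2) (⇑Q)) (v : ι → ZMod 2) :
    cj x (tv Q v) = tv Q (lm Q x v) := by
  apply (toO Q).injective
  rw [cj, map_mul, map_mul, map_inv, tv, tv, Orthogonal.reflIso, Orthogonal.reflIso,
    MulEquiv.apply_symm_apply, MulEquiv.apply_symm_apply, Orthogonal.conj_rO]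
  rfl

section Facts

variable (hQ : Nondeg Q)
include hQ

theorem tv_mem {v : ι → ZMod 2} (hv : Q v = 1) : tv Q v ∈ orthTv (⇑Q) :=
  (H44.rank_sub_one_iff hQ _).2 ⟨v, hv, MulEquiv.apply_symm_apply _ _⟩

theorem exists_tv {c : Cfsg.isometryGroup (ZMod 2) (⇑Q)} (hc : c ∈ orthTv (⇑Q)) :
    ∃ v, Q v = 1 ∧ c = tv Q v := by
  obtain ⟨v, hv, e⟩ := (H44.rank_sub_one_iff hQ c).1 hc
  exact ⟨v, hv, (toO Q).injective (by rw [e, tv, Orthogonal.reflIso, MulEquiv.apply_symm_apply])⟩

theorem tv_inj {v w : ι → ZMod 2} (hv : Q v = 1) (hw : Q w = 1) (h : tv Q v = tv Q w) : v = w := by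
  obtain ⟨z, hz⟩ := hQ.exists_polar_ne (x := v) fun e => by
    rw [e, QuadraticMap.map_zero] at hv; exact zero_ne_one hv
  have e := (lm_tv hv z).symm.trans ((congrArg (fun t => lm Q t z) h).trans (lm_tv hw z))
  rw [add_right_inj, H44.f2_ne hz, one_smul] at e
  rcases H7Fischer.z2_cases (polar Q w z) with q | q
  · rw [q, zero_smul] at e
    rw [e, QuadraticMap.map_zero] at hv
    exact absurd hv zero_ne_one
  · rwa [q, one_smul] at e

theorem commute_tv {v w : ι → ZMod 2} (hv : Q v = 1) (hw : Q w = 1) :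
    Commute (tv Q v) (tv Q w) ↔ polar Q v w = 0 := by
  have h : cj (tv Q v) (tv Q w) = tv Q (lm Q (tv Q v) w) := cj_tv _ _
  constructor
  · intro hc
    have e := tv_inj hQ (by rw [lm_form]; exact hw) hw (h.symm.trans (cj_eq_of_commute hc))
    rw [lm_tv hv, add_eq_left, smul_eq_zero] at e
    exact e.resolve_right fun q => by rw [q, QuadraticMap.map_zero] at hv; exact zero_ne_one hv
  · intro hp
    refine commute_of_cj_eq ?_
    rw [h, lm_tv hv, hp, zero_smul, add_zero]

theorem mem_nb_tv {v w : ι → ZMod 2} (hv : Q v = 1) (hw : Q w = 1) :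
    tv Q w ∈ nb (orthTv (⇑Q)) (tv Q v) ↔ w ≠ v ∧ polar Q v w = 0 :=
  ⟨fun h => ⟨fun e => h.2.1 (e ▸ rfl), (commute_tv hQ hv hw).1 h.2.2⟩,
    fun h => ⟨tv_mem hQ hw, fun e => h.1 (tv_inj hQ hw hv e), (commute_tv hQ hv hw).2 h.2⟩⟩

theorem exists_one_perp (hι : 4 ≤ Fintype.card ι) (z : ι → ZMod 2) :
    ∃ v, Q v = 1 ∧ polar Q z v = 0 := by
  by_contra hall
  push Not at hall
  have hTS : TotSing Q (perp Q (Submodule.span (ZMod 2) {z})) := by
    intro v hv
    rcases H7Fischer.z2_cases (Q v) with h | h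
    · exact h
    · exact absurd ((Orthogonal.mem_perp_span_singleton Q).1 hv) (hall v h)
  have h1 := hTS.two_mul_finrank_le hQ
  have h2 := hQ.finrank_add_perp (Submodule.span (ZMod 2) {z})
  have h3 : finrank (ZMod 2) (Submodule.span (ZMod 2) {z}) ≤ 1 := by
    refine (finrank_span_le_card ({z} : Set (ι → ZMod 2))).trans ?_
    simp
  rw [Module.finrank_fintype_fun_eq_card] at h1 h2
  omega

/-- A moving involution fixes exactly a maximal totally singular subspace and its image there is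
the whole of it. -/
theorem moves_lm (hι : 4 ≤ Fintype.card ι) {x : Cfsg.isometryGroup (ZMod 2) (⇑Q)}
    (h : Moves (orthTv (⇑Q)) x) :
    (∀ v, lm Q x (lm Q x v) = v) ∧ (∀ v, polar Q v (lm Q x v) = 0) ∧
      (∀ v, Q v = 1 → lm Q x v ≠ v) ∧
      TotSing Q (LinearMap.ker (lm Q x + 1)) ∧
      2 * finrank (ZMod 2) (LinearMap.ker (lm Q x + 1)) = Fintype.card ι := by
  set g := lm Q x
  have hgg : ∀ v, g (g v) = v := fun v => by rw [← lm_mul, h.1, lm_one]
  have hm : ∀ v, Q v = 1 → g v ≠ v ∧ polar Q v (g v) = 0 := fun v hv => by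
    have h1 := h.2 _ (tv_mem hQ hv)
    rw [cj_tv] at h1
    exact (mem_nb_tv hQ hv (by rw [lm_form]; exact hv)).1 h1
  have hadd : ∀ u v, polar Q (u + v) (g (u + v)) = polar Q u (g u) + polar Q v (g v) := by
    intro u v
    have e : polar Q v (g u) = polar Q u (g v) := by
      rw [← lm_polar x v (g u), hgg, polar_comm]
    rw [map_add, polar_add_left, polar_add_right, polar_add_right, e]
    calc _ = polar Q u (g u) + polar Q v (g v) + (polar Q u (g v) + polar Q u (g v)) := by abel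
      _ = _ := by rw [z2_self, add_zero]
  have hell : ∀ v, polar Q v (g v) = 0 := by
    intro v
    rcases H7Fischer.z2_cases (Q v) with h0 | h0
    · obtain ⟨u, hu, hvu⟩ := exists_one_perp hQ hι v
      have hQ' : Q (v + u) = 1 := by rw [Orthogonal.map_add_polar, h0, hu, hvu, zero_add, add_zero]
      have := hadd v u
      rw [(hm _ hQ').2, (hm u hu).2, add_zero] at this
      exact this.symm
    · exact (hm v h0).2
  have hN : ∀ v, (g + 1) v = g v + v := fun v => by simp
  have hker : ∀ v, v ∈ LinearMap.ker (g + 1) ↔ g v = v := fun v => by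
    rw [LinearMap.mem_ker, hN, add_eq_zero_iff_eq_neg, z2_neg]
  have hTS : TotSing Q (LinearMap.ker (g + 1)) := fun v hv =>
    (H7Fischer.z2_cases (Q v)).resolve_right fun h1 => (hm v h1).1 ((hker v).1 hv)
  refine ⟨hgg, hell, fun v hv => (hm v hv).1, hTS, ?_⟩
  have h1 := hTS.two_mul_finrank_le hQ
  have h2 := LinearMap.finrank_range_add_finrank_ker (g + 1)
  have h3 : finrank (ZMod 2) (LinearMap.range (g + 1)) ≤ finrank (ZMod 2) (LinearMap.ker (g + 1)) :=
    Submodule.finrank_mono (by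
      rintro _ ⟨v, rfl⟩
      rw [hker, hN, map_add, hgg, add_comm])
  rw [Module.finrank_fintype_fun_eq_card] at h1 h2
  omega

/-- Half the dimension is even when some involution moves every member to a commuting one. -/
theorem even_half (hι : 4 ≤ Fintype.card ι) {x : Cfsg.isometryGroup (ZMod 2) (⇑Q)}
    (h : Moves (orthTv (⇑Q)) x) {m : ℕ} (hm : Fintype.card ι = 2 * m) : Even m := by
  obtain ⟨hgg, hell, -, hTS, hdim⟩ := moves_lm hQ hι h
  set g := lm Q x
  set W := LinearMap.ker (g + 1)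
  obtain ⟨U, hU⟩ := Submodule.exists_isCompl W
  let N : ↥U →ₗ[ZMod 2] (ι → ZMod 2) := (g + 1).domRestrict U
  let B : LinearMap.BilinForm (ZMod 2) ↥U := (Q.polarBilin.comp U.subtype).compl₂ N
  have hBap : ∀ u v : ↥U, B u v = polar Q (u : ι → ZMod 2) (g v + v) := fun u v => by
    simp [B, N]
  have hA : B.IsAlt := fun u => by
    rw [hBap, polar_add_right, hell, zero_add, Orthogonal.polar_self', z2_two, zero_mul]
  have hW : ∀ v, g v + v ∈ W := fun v => by
    rw [LinearMap.mem_ker]
    simp only [LinearMap.add_apply, Module.End.one_apply, map_add, hgg]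
    rw [add_comm v, z2_self]
  have hB : B.Nondegenerate := by
    refine hA.isRefl.nondegenerate_iff_separatingRight.2 fun v hv => Subtype.ext ?_
    have h0 : g v + (v : ι → ZMod 2) = 0 := by
      refine hQ _ fun z => ?_
      obtain ⟨w, hw, u, hu, rfl⟩ : ∃ w ∈ W, ∃ u ∈ U, w + u = z :=
        Submodule.mem_sup.1 (hU.sup_eq_top ▸ Submodule.mem_top)
      rw [polar_comm, polar_add_left, hTS.polar_eq hw (hW v), zero_add,
        ← hBap ⟨u, hu⟩ v]
      exact hv ⟨u, hu⟩
    exact (Submodule.disjoint_def.1 hU.disjoint _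
      (LinearMap.mem_ker.2 (by simpa using h0)) v.2)
  have h1 := Symplectic.even_finrank_of_alt hA hB
  have h2 := Submodule.finrank_add_eq_of_isCompl hU
  rw [Module.finrank_fintype_fun_eq_card] at h2
  have : finrank (ZMod 2) ↥U = m := by omega
  rwa [this] at h1

end Facts

/-- Elliptic forms have no twist. -/
theorem not_twist_minus {m : ℕ} (hm : 2 ≤ m) {a b : ZMod 2}
    (hab : ∀ z₁ z₂ : ZMod 2, z₁ ^ 2 + a * z₁ * z₂ + b * z₂ ^ 2 = 0 → z₁ = 0 ∧ z₂ = 0)
    (H : Cls (orthTv (⇑(Orthogonal.formMinus (ZMod 2) m a b)))) :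
    ¬ Twist (orthTv (⇑(Orthogonal.formMinus (ZMod 2) m a b))) := by
  intro hT
  set Q := Orthogonal.formMinus (ZMod 2) m a b
  have hQ : Nondeg Q := Orthogonal.formMinus_nondeg m hab
  obtain ⟨x, hx⟩ := hT.exists_moves H
  have hcard : Fintype.card ((Fin m ⊕ Fin m) ⊕ Fin 2) = 2 * (m + 1) := by simp; omega
  obtain ⟨-, -, -, hTS, hdim⟩ := moves_lm hQ (by omega) hx
  set W := LinearMap.ker (lm Q x + 1)
  have hW : finrank (ZMod 2) W = m + 1 := by omega
  set e := Orthogonal.stdMinusE (ZMod 2) m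
  set f := Orthogonal.stdMinusF (ZMod 2) m
  have hfr : Orthogonal.IsFrame Q e f := Orthogonal.formMinus_frame (ZMod 2) m a b
  set W₀ := Submodule.span (ZMod 2) (Set.range e)
  have hcombo : ∀ (s : Fin m → ZMod 2) (y : (Fin m ⊕ Fin m) ⊕ Fin 2 → ZMod 2),
      polar Q (∑ i, s i • e i) y = ∑ i, s i * polar Q (e i) y := fun s y => by
    rw [← Orthogonal.polarBilin_apply', map_sum, LinearMap.sum_apply]
    refine Finset.sum_congr rfl fun i _ => ?_
    rw [LinearMap.map_smul, LinearMap.smul_apply, Orthogonal.polarBilin_apply', smul_eq_mul]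
  have hW₀ : TotSing Q W₀ := by
    intro w hw
    induction hw using Submodule.span_induction with
    | mem y hy => obtain ⟨i, rfl⟩ := hy; exact hfr.qe i
    | zero => exact QuadraticMap.map_zero _
    | add p q hp hq ihp ihq =>
      obtain ⟨s, rfl⟩ := (Submodule.mem_span_range_iff_exists_fun (ZMod 2)).1 hp
      obtain ⟨t, rfl⟩ := (Submodule.mem_span_range_iff_exists_fun (ZMod 2)).1 hq
      rw [Orthogonal.map_add_polar, ihp, ihq, hcombo, zero_add, zero_add]
      refine Finset.sum_eq_zero fun i _ => ?_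
      rw [polar_comm, hcombo]
      simp [hfr.ee]
    | smul k p _ ihp => rw [Orthogonal.qmap_smul, ihp, mul_zero]
  obtain ⟨W', hle, hTS', hW'⟩ := hW₀.exists_max_ge hQ hTS (by
    have h1 : finrank (ZMod 2) W₀ ≤ m :=
      (finrank_range_le_card e).trans_eq (Fintype.card_fin m)
    omega)
  have hsub : W' ≤ W₀ := by
    intro z hz
    have hw : ∑ i, polar Q z (f i) • e i ∈ W₀ :=
      Submodule.sum_mem _ fun i _ => Submodule.smul_mem _ _ (Submodule.subset_span ⟨i, rfl⟩)
    set w := ∑ i, polar Q z (f i) • e i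
    have hzw : z - w ∈ W' := Submodule.sub_mem _ hz (hle hw)
    have hker : z - w ∈ Orthogonal.IsFrame.kernel Q e f := by
      refine Orthogonal.IsFrame.mem_kernel.2 ⟨fun i => ?_, fun i => ?_⟩
      · exact hTS'.polar_eq (hle (Submodule.subset_span ⟨i, rfl⟩)) hzw
      · rw [polar_comm, polar_sub_left, hcombo, Finset.sum_eq_single i]
        · rw [hfr.ef, if_pos rfl, mul_one, sub_self]
        · intro j _ hj
          rw [hfr.ef, if_neg hj, mul_zero]
        · exact fun h => absurd (Finset.mem_univ i) h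
    have := Orthogonal.formMinus_aniso (ZMod 2) m hab _ hker (hTS' _ hzw)
    rw [sub_eq_zero] at this
    exact this ▸ hw
  have h1 := Submodule.finrank_mono hsub
  have h2 : finrank (ZMod 2) W₀ ≤ m := (finrank_range_le_card e).trans_eq (Fintype.card_fin m)
  omega

/-- An abelian group of exponent three acting on a space over the field with two elements. -/
theorem card_sq_le : ∀ (d : ℕ) {W : Type} [AddCommGroup W] [Module (ZMod 2) W]
    [FiniteDimensional (ZMod 2) W] (A : Subgroup (W ≃ₗ[ZMod 2] W)),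
    finrank (ZMod 2) W = d → (∀ g ∈ A, ∀ h ∈ A, g * h = h * g) → (∀ g ∈ A, g * g * g = 1) →
    Nat.card A ^ 2 ≤ 3 ^ d := by
  intro d
  induction d using Nat.strong_induction_on with
  | _ d ih =>
    intro W _ _ _ A hd hcomm hcube
    have : Finite W := Module.finite_of_finite (ZMod 2)
    have : Finite (W ≃ₗ[ZMod 2] W) := Finite.of_injective (fun e => (e : W → W))
      DFunLike.coe_injective
    by_cases htriv : ∀ g ∈ A, g = 1
    · have h1 : A = ⊥ := (Subgroup.eq_bot_iff_forall A).2 htriv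
      rw [h1, Subgroup.card_bot]
      simpa using Nat.one_le_pow d 3 (by norm_num)
    push Not at htriv
    obtain ⟨g, hg, hg1⟩ := htriv
    have h3 : ∀ g ∈ A, ∀ v, g (g (g v)) = v := fun g hg v => LinearEquiv.congr_fun (hcube g hg) v
    by_cases hfix : ∃ g ∈ A, g ≠ 1 ∧ ∃ v, v ≠ 0 ∧ g v = v
    · obtain ⟨g, hg, hg1, v₀, hv₀, hgv₀⟩ := hfix
      let gl : W →ₗ[ZMod 2] W := g.toLinearMap
      set W₀ := LinearMap.ker (gl + 1)
      set W₁ := LinearMap.ker (gl.comp gl + gl + 1)
      have hW₀ : ∀ v, v ∈ W₀ ↔ g v = v := fun v => by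
        rw [LinearMap.mem_ker]
        show g v + v = 0 ↔ _
        rw [add_eq_zero_iff_eq_neg, z2_neg]
      have hW₁ : ∀ v, v ∈ W₁ ↔ g (g v) + g v + v = 0 := fun v => Iff.rfl
      have hc : IsCompl W₀ W₁ := by
        refine ⟨disjoint_iff_inf_le.2 fun v hv => ?_, codisjoint_iff_le_sup.2 fun v _ => ?_⟩
        · have h1 := (hW₀ v).1 hv.1
          have h2 := (hW₁ v).1 hv.2
          rw [h1, h1, z2_self, zero_add] at h2
          exact (Submodule.mem_bot _).2 h2
        · have e : v = (g (g v) + g v + v) + (g (g v) + g v) := by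
            calc v = v + ((g (g v) + g v) + (g (g v) + g v)) := by rw [z2_self, add_zero]
              _ = _ := by abel
          rw [e]
          refine Submodule.add_mem_sup ((hW₀ _).2 ?_) ((hW₁ _).2 ?_)
          · rw [map_add, map_add, h3 g hg]; abel
          · simp only [map_add, h3 g hg]
            calc g v + v + (v + g (g v)) + (g (g v) + g v)
                = (g v + g v) + (v + v) + (g (g v) + g (g v)) := by abel
              _ = 0 := by simp only [z2_self]
      have hinv : ∀ h ∈ A, (∀ v ∈ W₀, h v ∈ W₀) ∧ ∀ v ∈ W₁, h v ∈ W₁ := by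
        intro h hh
        have e : ∀ v, g (h v) = h (g v) := fun v => LinearEquiv.congr_fun (hcomm g hg h hh) v
        refine ⟨fun v hv => (hW₀ _).2 (by rw [e, (hW₀ v).1 hv]), fun v hv => (hW₁ _).2 ?_⟩
        rw [e, e, ← map_add, ← map_add, (hW₁ v).1 hv, map_zero]
      have mkR : ∀ (X : Submodule (ZMod 2) W), (∀ h ∈ A, ∀ v ∈ X, h v ∈ X) →
          ∃ ρ : ↥A →* (↥X ≃ₗ[ZMod 2] ↥X), ∀ (h : ↥A) (v : ↥X), (ρ h v : W) = (h : W ≃ₗ[ZMod 2] W) v := by
        intro X hX
        let f : ↥A → (↥X ≃ₗ[ZMod 2] ↥X) := fun h =>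
          LinearEquiv.ofLinearMap (((h : W ≃ₗ[ZMod 2] W).toLinearMap).restrict (hX h h.2))
            (((h⁻¹ : ↥A) : W ≃ₗ[ZMod 2] W).toLinearMap.restrict (hX _ (h⁻¹).2))
            (LinearMap.ext fun v => Subtype.ext (by
              show (h : W ≃ₗ[ZMod 2] W) (((h⁻¹ : ↥A) : W ≃ₗ[ZMod 2] W) v) = v
              rw [← Orthogonal.mul_app, ← Subgroup.coe_mul, mul_inv_cancel]
              rfl))
            (LinearMap.ext fun v => Subtype.ext (by
              show ((h⁻¹ : ↥A) : W ≃ₗ[ZMod 2] W) ((h : W ≃ₗ[ZMod 2] W) v) = v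
              rw [← Orthogonal.mul_app, ← Subgroup.coe_mul, inv_mul_cancel]
              rfl))
        exact ⟨{ toFun := f
                 map_one' := LinearEquiv.ext fun v => Subtype.ext rfl
                 map_mul' := fun a b => LinearEquiv.ext fun v => Subtype.ext rfl },
          fun h v => rfl⟩
      obtain ⟨ρ₀, hρ₀⟩ := mkR W₀ fun h hh => (hinv h hh).1
      obtain ⟨ρ₁, hρ₁⟩ := mkR W₁ fun h hh => (hinv h hh).2
      have hsum := Submodule.finrank_add_eq_of_isCompl hc
      rw [hd] at hsum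
      have hpos₀ : finrank (ZMod 2) W₀ ≠ 0 := fun e => by
        have h1 := (Submodule.finrank_eq_zero.1 e) ▸ (hW₀ v₀).2 hgv₀
        exact hv₀ ((Submodule.mem_bot _).1 h1)
      have hpos₁ : finrank (ZMod 2) W₁ ≠ 0 := fun e => by
        have h0 : W₀ = ⊤ := by
          have := hc.sup_eq_top
          rwa [Submodule.finrank_eq_zero.1 e, sup_bot_eq] at this
        exact hg1 (LinearEquiv.ext fun v => (hW₀ v).1 (h0 ▸ Submodule.mem_top))
      have hr : ∀ {X : Submodule (ZMod 2) W} (ρ : ↥A →* (↥X ≃ₗ[ZMod 2] ↥X)),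
          finrank (ZMod 2) X < d → Nat.card ρ.range ^ 2 ≤ 3 ^ finrank (ZMod 2) X := by
        intro X ρ hX
        refine ih _ hX ρ.range rfl ?_ ?_
        · rintro _ ⟨p, rfl⟩ _ ⟨q, rfl⟩
          rw [← map_mul, ← map_mul]
          exact congrArg ρ (Subtype.ext (hcomm p p.2 q q.2))
        · rintro _ ⟨p, rfl⟩
          rw [← map_mul, ← map_mul, show p * p * p = 1 from Subtype.ext (hcube p p.2), map_one]
      have hfinX : ∀ X : Submodule (ZMod 2) W, Finite (↥X ≃ₗ[ZMod 2] ↥X) := fun X =>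
        Finite.of_injective (fun e => (e : ↥X → ↥X)) DFunLike.coe_injective
      have := hfinX W₀
      have := hfinX W₁
      have hinj : Function.Injective fun h : ↥A =>
          ((⟨ρ₀ h, h, rfl⟩ : ρ₀.range), (⟨ρ₁ h, h, rfl⟩ : ρ₁.range)) := by
        intro h k e
        refine Subtype.ext (LinearEquiv.ext fun v => ?_)
        obtain ⟨p, hp, q, hq, rfl⟩ : ∃ p ∈ W₀, ∃ q ∈ W₁, p + q = v :=
          Submodule.mem_sup.1 (hc.sup_eq_top ▸ Submodule.mem_top)
        have e1 : ρ₀ h = ρ₀ k := congrArg Subtype.val (congrArg Prod.fst e)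
        have e2 : ρ₁ h = ρ₁ k := congrArg Subtype.val (congrArg Prod.snd e)
        rw [map_add, map_add, ← hρ₀ h ⟨p, hp⟩, ← hρ₁ h ⟨q, hq⟩, e1, e2, hρ₀, hρ₁]
      have h4 := Nat.card_le_card_of_injective _ hinj
      rw [Nat.card_prod] at h4
      calc Nat.card A ^ 2 ≤ (Nat.card ρ₀.range * Nat.card ρ₁.range) ^ 2 :=
            Nat.pow_le_pow_left h4 2
        _ = Nat.card ρ₀.range ^ 2 * Nat.card ρ₁.range ^ 2 := mul_pow _ _ 2
        _ ≤ 3 ^ finrank (ZMod 2) W₀ * 3 ^ finrank (ZMod 2) W₁ :=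
            Nat.mul_le_mul (hr ρ₀ (by omega)) (hr ρ₁ (by omega))
        _ = 3 ^ d := by rw [← pow_add, hsum]
    push Not at hfix
    have hquad : ∀ k ∈ A, k ≠ 1 → ∀ v, k (k v) + k v + v = 0 := by
      intro k hk hk1 v
      by_contra hne
      refine hfix k hk hk1 _ hne ?_
      simp only [map_add, h3 k hk]
      abel
    have hsmall : ∀ h ∈ A, h = 1 ∨ h = g ∨ h = g * g := by
      intro h hh
      by_contra hcon
      push Not at hcon
      obtain ⟨hh1, hhg, hhgg⟩ := hcon
      have e : ∀ v, g (h v) = h (g v) := fun v => LinearEquiv.congr_fun (hcomm g hg h hh) v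
      refine hhgg (LinearEquiv.ext fun v => ?_)
      show h v = g (g v)
      by_contra hne
      set w := h v + g (g v)
      have hw : w ≠ 0 := fun q => hne (by rwa [add_eq_zero_iff_eq_neg, z2_neg] at q)
      have hhw : h w = g w := by
        have h1 := hquad h hh hh1 v
        have h2 := hquad g hg hg1 (h v)
        simp only [w, map_add, ← e]
        rw [h3 g hg v]
        calc h (h v) + g (g (h v))
            = (h (h v) + h v + v) + (g (g (h v)) + g (h v) + h v) + (g (h v) + v) := by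
              rw [show (h (h v) + h v + v) + (g (g (h v)) + g (h v) + h v) + (g (h v) + v) =
                h (h v) + g (g (h v)) + ((h v + h v) + (v + v) + (g (h v) + g (h v))) by abel]
              simp only [z2_self, add_zero]
          _ = g (h v) + v := by rw [h1, h2, add_zero, zero_add]
      refine hfix (g⁻¹ * h) (A.mul_mem (A.inv_mem hg) hh)
        (fun q => hhg (inv_mul_eq_one.1 q).symm) w hw ?_
      show g⁻¹ (h w) = w
      rw [hhw, ← Orthogonal.mul_app, inv_mul_cancel]
      rfl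
    have hA3 : Nat.card A ≤ 3 := by
      have hset : (A : Set (W ≃ₗ[ZMod 2] W)) ⊆ {1, g, g * g} := fun h hh => by
        rcases hsmall h hh with q | q | q <;> simp [q]
      have h1 := Set.ncard_le_ncard hset (Set.toFinite _)
      have h2 : ({1, g, g * g} : Set (W ≃ₗ[ZMod 2] W)).ncard ≤ 3 := by
        refine (Set.ncard_insert_le _ _).trans (Nat.add_le_add_right ?_ 1)
        exact (Set.ncard_insert_le _ _).trans (by simp)
      rw [← SetLike.coe_sort_coe, Nat.card_coe_set_eq]
      omega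
    have hd2 : 2 ≤ d := by
      by_contra hlt
      refine hg1 (LinearEquiv.ext fun v => ?_)
      by_cases hv : v = 0
      · rw [hv, map_zero]; rfl
      obtain ⟨k, hk⟩ := (finrank_le_one_iff (K := ZMod 2)).1 (by omega : finrank (ZMod 2) W ≤ 1)
      obtain ⟨a, ha⟩ := hk v
      obtain ⟨b, hb⟩ := hk (g v)
      rcases H7Fischer.z2_cases a with q | q
      · exact absurd (by rw [← ha, q, zero_smul]) hv
      rcases H7Fischer.z2_cases b with q' | q'
      · exact absurd (g.map_eq_zero_iff.1 (by rw [← hb, q', zero_smul])) hv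
      · show g v = v
        rw [← hb, ← ha, q, q']
    calc Nat.card A ^ 2 ≤ 3 ^ 2 := Nat.pow_le_pow_left hA3 2
      _ ≤ 3 ^ d := Nat.pow_le_pow_right (by norm_num) hd2

end Cfsg.Agent.H97.Fischer
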